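import Cfsg.Agent.OddOrder.BG3.Rfix0
import Cfsg.Agent.OddOrder.BG4.Basic
import Cfsg.Agent.OddOrder.BG1Stab
import Cfsg.Agent.Coprime.Abelian
import Cfsg.Agent.Solvable.Frattini

/-!
# Fixed points forcing centralisation (tools for Bender–Glauberman, section 13)

`T = ⁅T, R⁆` is a `q`-group, `R` has prime order, and both act on an `ℓ`-group `L`.
* `le_centralizer_of_fixed_le`: `C_L(R) ≤ C(T)` forces `T ≤ C(L)`.
* `le_centralizer_of_two_fixed_le`: if `P` commutes with `T` and `R` and centralises both `C_L(R)`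
  and `C_L(Y)` for some `Y ≤ T`, then `P ≤ C(L)`.
* `le_centralizer_of_omega_fixed`: `T` centralising the elements of exponent `ℓ` of `C_L(R)`
  forces `T ≤ C(L)`.
-/

set_option autoImplicit false
set_option linter.style.haveILetI false

namespace CfsgLib.OddOrder.BG13

open Subgroup
open scoped commutatorElement

variable {X : Type*} [Group X] [Finite X] {ℓ q : ℕ}

omit [Finite X] in
theorem le_normalizer_commutator_of_inf (A B : Subgroup X) :
    normalizer (A : Set X) ⊓ normalizer (B : Set X) ≤ normalizer ((⁅A, B⁆ : Subgroup X) : Set X) := by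
  intro g hg
  obtain ⟨hA, hB⟩ := Subgroup.mem_inf.mp hg
  rw [mem_normalizer_iff_map_conj_eq] at hA hB
  rw [mem_normalizer_iff_map_conj_eq]
  change Subgroup.map (MulAut.conj g).toMonoidHom ⁅A, B⁆ = ⁅A, B⁆
  rw [map_commutator]
  exact congrArg₂ (⁅·, ·⁆) hA hB

omit [Finite X] in
theorem normalizer_le_normalizer_map_char (H : Subgroup X) (C : Subgroup H)
    [hC : C.Characteristic] :
    normalizer (H : Set X) ≤ normalizer ((C.map H.subtype : Subgroup X) : Set X) := by
  intro g hg
  rw [mem_normalizer_iff_map_conj_eq] at hg ⊢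
  let e : H ≃* H :=
    (H.equivMapOfInjective (MulAut.conj g).toMonoidHom (MulAut.conj g).injective).trans
      (MulEquiv.subgroupCongr hg)
  have hcomp : H.subtype.comp e.toMonoidHom = (MulAut.conj g).toMonoidHom.comp H.subtype :=
    MonoidHom.ext fun x => rfl
  change Subgroup.map (MulAut.conj g).toMonoidHom (C.map H.subtype) = C.map H.subtype
  rw [map_map, ← hcomp, ← map_map, characteristic_iff_map_eq.mp hC e]

/-- The data of a `q`-group `T = ⁅T, R⁆` with `R` of prime order, acting coprimely in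
characteristic `ℓ`. -/
structure PrimePair (ℓ q : ℕ) (T R : Subgroup X) : Prop where
  primeL : ℓ.Prime
  primeQ : q.Prime
  isPGroup : IsPGroup q T
  primeR : (Nat.card R).Prime
  norm : R ≤ normalizer (T : Set X)
  comm_eq : ⁅T, R⁆ = T
  q_ne_two : q ≠ 2
  r_ne_two : Nat.card R ≠ 2
  q_ne : q ≠ ℓ
  r_ne : Nat.card R ≠ ℓ
  r_ne_q : Nat.card R ≠ q

theorem coprime_of_isPGroup_ne {ℓ q : ℕ} (hl : ℓ.Prime) (hq : q.Prime) (hne : q ≠ ℓ)
    {A B : Subgroup X} (hA : IsPGroup q A) (hB : IsPGroup ℓ B) :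
    (Nat.card A).Coprime (Nat.card B) := by
  haveI := Fact.mk hl
  haveI := Fact.mk hq
  obtain ⟨a, ha⟩ := IsPGroup.iff_card.mp hA
  obtain ⟨b, hb⟩ := IsPGroup.iff_card.mp hB
  rw [ha, hb]
  exact ((Nat.coprime_primes hq hl).mpr hne).pow a b

namespace PrimePair

variable {T R : Subgroup X}

theorem coprime_T (h : PrimePair ℓ q T R) {L : Subgroup X} (hL : IsPGroup ℓ L) :
    (Nat.card T).Coprime (Nat.card L) :=
  coprime_of_isPGroup_ne h.primeL h.primeQ h.q_ne h.isPGroup hL

theorem coprime_R (h : PrimePair ℓ q T R) {L : Subgroup X} (hL : IsPGroup ℓ L) :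
    (Nat.card R).Coprime (Nat.card L) := by
  haveI := Fact.mk h.primeR
  exact coprime_of_isPGroup_ne h.primeL h.primeR h.r_ne
    (IsPGroup.of_card (n := 1) (pow_one _).symm) hL

theorem solvable_T (h : PrimePair ℓ q T R) : Group.IsSolvable T := by
  haveI := Fact.mk h.primeQ
  haveI := h.isPGroup.isNilpotent
  infer_instance

theorem map {Y : Type*} [Group Y] [Finite Y] (h : PrimePair ℓ q T R) {f : X →* Y}
    (hR : Nat.card (R.map f) = Nat.card R) : PrimePair ℓ q (T.map f) (R.map f) where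
  primeL := h.primeL
  primeQ := h.primeQ
  isPGroup := h.isPGroup.map f
  primeR := hR ▸ h.primeR
  norm := by
    rintro _ ⟨r, hr, rfl⟩
    exact le_normalizer_map f ⟨r, h.norm hr, rfl⟩
  comm_eq := by rw [← map_commutator, h.comm_eq]
  q_ne_two := h.q_ne_two
  r_ne_two := hR ▸ h.r_ne_two
  q_ne := h.q_ne
  r_ne := hR ▸ h.r_ne
  r_ne_q := hR ▸ h.r_ne_q

/-- BG 3.4 in the form used here. -/
theorem le_centralizer_of_rfix_bot (h : PrimePair ℓ q T R) {V : Subgroup X}
    (hV : Cfsg.IsElementaryAbelian ℓ V) (hTV : T ≤ normalizer (V : Set X))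
    (hRV : R ≤ normalizer (V : Set X)) (hfix : V ⊓ centralizer (R : Set X) = ⊥) :
    T ≤ centralizer (V : Set X) := by
  haveI := Fact.mk h.primeL
  haveI := Fact.mk h.primeQ
  obtain ⟨a, ha⟩ := IsPGroup.iff_card.mp h.isPGroup
  have := commutator_le_centralizer_of_rfix0 (K := T) (R := R) ℓ hV h.solvable_T h.norm hTV hRV
    h.primeR h.r_ne_two h.r_ne (by rw [ha]; exact (h.primeQ.odd_of_ne_two h.q_ne_two).pow)
    (by rw [ha]; exact ((Nat.coprime_primes h.primeQ h.primeL).mpr h.q_ne).pow_left a)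
    (by rw [ha]; exact ((Nat.coprime_primes h.primeR h.primeQ).mpr h.r_ne_q).pow_right a) hfix
  rwa [h.comm_eq] at this

/-- Fixed points on an elementary abelian group. -/
theorem le_centralizer_of_fixed_le_abelian (h : PrimePair ℓ q T R) {V : Subgroup X}
    (hV : Cfsg.IsElementaryAbelian ℓ V) (hTV : T ≤ normalizer (V : Set X))
    (hRV : R ≤ normalizer (V : Set X))
    (hfix : V ⊓ centralizer (R : Set X) ≤ centralizer (T : Set X)) :
    T ≤ centralizer (V : Set X) := by
  haveI := hV.1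
  have hVp : IsPGroup ℓ V := fun v => ⟨1, Subtype.ext (by simpa using hV.2 v v.2)⟩
  have hcop := h.coprime_T hVp
  set V1 := ⁅V, T⁆ with hV1
  have hle : V1 ≤ V := Coprime.commutator_le_of_le_normalizer hTV
  have hT1 : T ≤ normalizer (V1 : Set X) := normalizer_commutator_ge_right V T
  have hR1 : R ≤ normalizer (V1 : Set X) :=
    (le_inf hRV h.norm).trans (le_normalizer_commutator_of_inf V T)
  have hV1e : Cfsg.IsElementaryAbelian ℓ V1 :=
    ⟨Subgroup.le_centralizer_iff_isMulCommutative.mp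
      ((hle.trans (le_centralizer_iff_isMulCommutative.mpr hV.1)).trans
        (centralizer_le hle)), fun a ha => hV.2 a (hle ha)⟩
  have hcen : T ≤ centralizer (V1 : Set X) := by
    refine h.le_centralizer_of_rfix_bot hV1e hT1 hR1 ?_
    rw [eq_bot_iff, ← Coprime.inf_centralizer_inf_commutator_eq_bot hTV hcop]
    exact fun x hx => ⟨⟨hle hx.1, hfix ⟨hle hx.1, hx.2⟩⟩, hx.1⟩
  refine Coprime.le_centralizer_of_commutator_commutator_eq_bot hTV hcop ?_
  rw [← hV1, commutator_comm, commutator_eq_bot_iff_le_centralizer]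
  exact hcen

/-- Fixed points of `R` and of `Y ≤ T` on an elementary abelian group. -/
theorem le_centralizer_of_two_fixed_le_abelian (h : PrimePair ℓ q T R) {P Y V : Subgroup X}
    (hV : Cfsg.IsElementaryAbelian ℓ V) (hY : Y ≤ T) (hTV : T ≤ normalizer (V : Set X))
    (hRV : R ≤ normalizer (V : Set X)) (hPV : P ≤ normalizer (V : Set X))
    (hcop : (Nat.card P).Coprime (Nat.card V))
    (hPT : T ≤ centralizer (P : Set X)) (hPR : R ≤ centralizer (P : Set X))
    (hfixR : V ⊓ centralizer (R : Set X) ≤ centralizer (P : Set X))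
    (hfixY : V ⊓ centralizer (Y : Set X) ≤ centralizer (P : Set X)) :
    P ≤ centralizer (V : Set X) := by
  haveI := hV.1
  set V1 := ⁅V, P⁆ with hV1
  have hle : V1 ≤ V := Coprime.commutator_le_of_le_normalizer hPV
  have hbot := Coprime.inf_centralizer_inf_commutator_eq_bot hPV hcop
  have hnorm : ∀ B : Subgroup X, B ≤ normalizer (V : Set X) → B ≤ centralizer (P : Set X) →
      B ≤ normalizer (V1 : Set X) := fun B hBV hBP =>
    (le_inf hBV (hBP.trans (centralizer_le_normalizer _))).trans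
      (le_normalizer_commutator_of_inf V P)
  have hV1e : Cfsg.IsElementaryAbelian ℓ V1 :=
    ⟨Subgroup.le_centralizer_iff_isMulCommutative.mp
      ((hle.trans (le_centralizer_iff_isMulCommutative.mpr hV.1)).trans
        (centralizer_le hle)), fun a ha => hV.2 a (hle ha)⟩
  have hcen : T ≤ centralizer (V1 : Set X) := by
    refine h.le_centralizer_of_rfix_bot hV1e (hnorm T hTV hPT) (hnorm R hRV hPR) ?_
    rw [eq_bot_iff, ← hbot]
    exact fun x hx => ⟨⟨hle hx.1, hfixR ⟨hle hx.1, hx.2⟩⟩, hx.1⟩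
  have hV1bot : V1 = ⊥ := by
    rw [eq_bot_iff, ← hbot]
    exact fun x hx => ⟨⟨hle hx, hfixY ⟨hle hx, le_centralizer_iff.mp (hY.trans hcen) hx⟩⟩, hx⟩
  rw [← commutator_eq_bot_iff_le_centralizer, commutator_comm]
  exact hV1bot

end PrimePair

/-- Reduction to the Frattini quotient of a normal `ℓ`-subgroup. -/
theorem exists_frattini_quotient (hl : ℓ.Prime) {L : Subgroup X} [L.Normal] (hL : IsPGroup ℓ L) :
    ∃ (N : Subgroup X) (_ : N.Normal), N ≤ L ∧
      Cfsg.IsElementaryAbelian ℓ (L.map (QuotientGroup.mk' N)) ∧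
      ∀ B : Subgroup X, (Nat.card B).Coprime (Nat.card L) →
        (L ⊓ centralizer (B : Set X)).map (QuotientGroup.mk' N) =
            L.map (QuotientGroup.mk' N) ⊓
              centralizer ((B.map (QuotientGroup.mk' N) : Subgroup (X ⧸ N)) : Set (X ⧸ N)) ∧
          Nat.card (B.map (QuotientGroup.mk' N)) = Nat.card B ∧
          (B.map (QuotientGroup.mk' N) ≤
              centralizer ((L.map (QuotientGroup.mk' N) : Subgroup (X ⧸ N)) : Set (X ⧸ N)) →
            B ≤ centralizer (L : Set X)) := by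
  haveI := Fact.mk hl
  obtain ⟨hfc, hfp, -⟩ := Stab.frattini_facts hL
  set Φ := (frattini L).map L.subtype with hΦ
  haveI hΦn : Φ.Normal := inferInstance
  have hΦL : Φ ≤ L := map_subtype_le _
  refine ⟨Φ, hΦn, hΦL, ⟨⟨⟨?_⟩⟩, ?_⟩, fun B hB => ⟨?_, ?_, fun hc => ?_⟩⟩
  · rintro ⟨_, a, ha, rfl⟩ ⟨_, b, hb, rfl⟩
    refine Subtype.ext (commutatorElement_eq_one_iff_mul_comm.mp ?_)
    rw [← map_commutatorElement, QuotientGroup.mk'_apply, QuotientGroup.eq_one_iff]
    exact ⟨_, hfc ⟨a, ha⟩ ⟨b, hb⟩, by simp [commutatorElement_def]⟩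
  · rintro _ ⟨a, ha, rfl⟩
    rw [← map_pow, QuotientGroup.mk'_apply, QuotientGroup.eq_one_iff]
    exact ⟨_, hfp ⟨a, ha⟩, by simp⟩
  · refine Coprime.map_inf_centralizer _ le_normalizer_of_normal
      (hB.coprime_dvd_right (card_dvd_of_le inf_le_left)) (Or.inr ?_)
    haveI := (hL.to_le (inf_le_left : L ⊓ (QuotientGroup.mk' Φ).ker ≤ L)).isNilpotent
    infer_instance
  · refine Solvable.card_map_mk'_of_disjoint Φ B ?_
    rw [disjoint_iff]
    exact Coprime.inf_eq_bot_of_coprime (hB.coprime_dvd_right (card_dvd_of_le hΦL))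
  · refine Coprime.le_centralizer_of_commutator_le_frattini le_normalizer_of_normal ?_ ?_
    · refine hB.coprime_dvd_right ?_
      rw [Nat.card_congr ((frattini L).equivMapOfInjective L.subtype L.subtype_injective).toEquiv]
      exact card_dvd_of_le hΦL
    · rw [← QuotientGroup.ker_mk' ((frattini L).map L.subtype), ← Subgroup.map_eq_bot_iff,
        map_commutator, commutator_comm, commutator_eq_bot_iff_le_centralizer]
      exact hc

namespace PrimePair

variable {T R : Subgroup X}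

theorem subgroupOf (h : PrimePair ℓ q T R) {N : Subgroup X} (hT : T ≤ N) (hR : R ≤ N) :
    PrimePair ℓ q (T.subgroupOf N) (R.subgroupOf N) where
  primeL := h.primeL
  primeQ := h.primeQ
  isPGroup := h.isPGroup.of_equiv (subgroupOfEquivOfLe hT).symm
  primeR := by rw [Nat.card_congr (subgroupOfEquivOfLe hR).toEquiv]; exact h.primeR
  norm := fun x hx => mem_normalizer_iff.mpr fun y =>
    mem_normalizer_iff.mp (h.norm (mem_subgroupOf.mp hx)) (y : X)
  comm_eq := by
    refine map_injective N.subtype_injective ?_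
    rw [map_commutator, map_subgroupOf_eq_of_le hT, map_subgroupOf_eq_of_le hR, h.comm_eq]
  q_ne_two := h.q_ne_two
  r_ne_two := by rw [Nat.card_congr (subgroupOfEquivOfLe hR).toEquiv]; exact h.r_ne_two
  q_ne := h.q_ne
  r_ne := by rw [Nat.card_congr (subgroupOfEquivOfLe hR).toEquiv]; exact h.r_ne
  r_ne_q := by rw [Nat.card_congr (subgroupOfEquivOfLe hR).toEquiv]; exact h.r_ne_q

omit [Finite X] in
theorem le_centralizer_subgroupOf {A B N : Subgroup X} (hA : A ≤ centralizer (B : Set X)) :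
    A.subgroupOf N ≤ centralizer ((B.subgroupOf N : Subgroup N) : Set N) :=
  fun a ha b hb => Subtype.ext (hA ha b hb)

omit [Finite X] in
theorem le_centralizer_of_subgroupOf {A B N : Subgroup X} (hA : A ≤ N) (hB : B ≤ N)
    (h : A.subgroupOf N ≤ centralizer ((B.subgroupOf N : Subgroup N) : Set N)) :
    A ≤ centralizer (B : Set X) :=
  fun a ha b hb => congrArg Subtype.val (h (x := ⟨a, hA ha⟩) ha ⟨b, hB hb⟩ hb)

omit [Finite X] in
theorem inf_centralizer_subgroupOf_le {A B C N : Subgroup X} (hB : B ≤ N) (hC : C ≤ N)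
    (h : A ⊓ centralizer (B : Set X) ≤ centralizer (C : Set X)) :
    A.subgroupOf N ⊓ centralizer ((B.subgroupOf N : Subgroup N) : Set N) ≤
      centralizer ((C.subgroupOf N : Subgroup N) : Set N) :=
  fun x hx c hc => Subtype.ext (h ⟨hx.1, fun b hb =>
    congrArg Subtype.val (hx.2 ⟨b, hB hb⟩ hb)⟩ c hc)

/-- `C_L(R) ≤ C(T)` forces `T ≤ C(L)`. -/
theorem le_centralizer_of_fixed_le (h : PrimePair ℓ q T R) {L : Subgroup X} (hL : IsPGroup ℓ L)
    (hTL : T ≤ normalizer (L : Set X)) (hRL : R ≤ normalizer (L : Set X))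
    (hfix : L ⊓ centralizer (R : Set X) ≤ centralizer (T : Set X)) :
    T ≤ centralizer (L : Set X) := by
  set N := normalizer (L : Set X) with hN
  refine le_centralizer_of_subgroupOf hTL le_normalizer ?_
  have h' := h.subgroupOf hTL hRL
  have hfix' := inf_centralizer_subgroupOf_le hRL hTL hfix
  set L' := L.subgroupOf N
  have hL' : IsPGroup ℓ L' := hL.of_equiv (subgroupOfEquivOfLe le_normalizer).symm
  haveI : L'.Normal := normal_subgroupOf_iff_le_normalizer le_normalizer |>.mpr le_rfl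
  obtain ⟨Φ, hΦn, hΦL, hV, hB⟩ := exists_frattini_quotient h.primeL hL'
  haveI := hΦn
  obtain ⟨hR1, hR2, -⟩ := hB _ (h'.coprime_R hL')
  obtain ⟨-, -, hT3⟩ := hB _ (h'.coprime_T hL')
  refine hT3 ((h'.map hR2).le_centralizer_of_fixed_le_abelian hV ?_ ?_ ?_)
  · exact le_normalizer_of_normal
  · exact le_normalizer_of_normal
  · rw [← hR1]
    refine (map_mono (le_inf inf_le_left hfix')).trans ?_
    rintro _ ⟨x, hx, rfl⟩ _ ⟨t, ht, rfl⟩
    rw [← map_mul, ← map_mul, hx.2 t ht]

/-- `P` centralising `C_L(R)` and `C_L(Y)`, `Y ≤ T`, centralises `L`. -/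
theorem le_centralizer_of_two_fixed_le (h : PrimePair ℓ q T R) {P Y L : Subgroup X}
    (hL : IsPGroup ℓ L) (hY : Y ≤ T) (hTL : T ≤ normalizer (L : Set X))
    (hRL : R ≤ normalizer (L : Set X)) (hPL : P ≤ normalizer (L : Set X))
    (hcop : (Nat.card P).Coprime (Nat.card L))
    (hPT : T ≤ centralizer (P : Set X)) (hPR : R ≤ centralizer (P : Set X))
    (hfixR : L ⊓ centralizer (R : Set X) ≤ centralizer (P : Set X))
    (hfixY : L ⊓ centralizer (Y : Set X) ≤ centralizer (P : Set X)) :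
    P ≤ centralizer (L : Set X) := by
  set N := normalizer (L : Set X) with hN
  refine le_centralizer_of_subgroupOf hPL le_normalizer ?_
  have h' := h.subgroupOf hTL hRL
  have hR' := inf_centralizer_subgroupOf_le hRL hPL hfixR
  have hY' := inf_centralizer_subgroupOf_le (hY.trans hTL) hPL hfixY
  have hPT' := le_centralizer_subgroupOf (N := N) hPT
  have hPR' := le_centralizer_subgroupOf (N := N) hPR
  set L' := L.subgroupOf N
  have hL' : IsPGroup ℓ L' := hL.of_equiv (subgroupOfEquivOfLe le_normalizer).symm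
  haveI : L'.Normal := normal_subgroupOf_iff_le_normalizer le_normalizer |>.mpr le_rfl
  have hcop' : (Nat.card (P.subgroupOf N)).Coprime (Nat.card L') := by
    rw [Nat.card_congr (subgroupOfEquivOfLe hPL).toEquiv,
      Nat.card_congr (subgroupOfEquivOfLe (le_normalizer : L ≤ N)).toEquiv]
    exact hcop
  have hYT' : Y.subgroupOf N ≤ T.subgroupOf N := comap_mono hY
  obtain ⟨Φ, hΦn, hΦL, hV, hB⟩ := exists_frattini_quotient h.primeL hL'
  haveI := hΦn
  obtain ⟨hR1, hR2, -⟩ := hB _ (h'.coprime_R hL')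
  obtain ⟨hY1, -, -⟩ := hB _ ((h'.coprime_T hL').coprime_dvd_left (card_dvd_of_le hYT'))
  obtain ⟨-, hP2, hP3⟩ := hB _ hcop'
  have hmap : ∀ {A : Subgroup N}, A ≤ centralizer ((P.subgroupOf N : Subgroup N) : Set N) →
      A.map (QuotientGroup.mk' Φ) ≤ centralizer
        (((P.subgroupOf N).map (QuotientGroup.mk' Φ) : Subgroup (N ⧸ Φ)) : Set (N ⧸ Φ)) := by
    intro A hA
    rintro _ ⟨x, hx, rfl⟩ _ ⟨t, ht, rfl⟩
    rw [← map_mul, ← map_mul, hA hx t ht]
  refine hP3 ((h'.map hR2).le_centralizer_of_two_fixed_le_abelian hV (map_mono hYT')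
    le_normalizer_of_normal le_normalizer_of_normal le_normalizer_of_normal ?_ (hmap hPT')
    (hmap hPR') ?_ ?_)
  · rw [hP2]
    exact hcop'.coprime_dvd_right (card_map_dvd L' _)
  · rw [← hR1]
    exact hmap hR'
  · rw [← hY1]
    exact hmap hY'

/-- If `T` centralises the elements of exponent `ℓ` of `C_L(R)` then `T ≤ C(L)`. -/
theorem le_centralizer_of_omega_fixed (h : PrimePair ℓ q T R) (hl2 : ℓ ≠ 2) {L : Subgroup X}
    (hL : IsPGroup ℓ L) (hTL : T ≤ normalizer (L : Set X)) (hRL : R ≤ normalizer (L : Set X))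
    (hTfix : ∀ x ∈ L ⊓ centralizer (R : Set X), x ^ ℓ = 1 → x ∈ centralizer (T : Set X)) :
    T ≤ centralizer (L : Set X) := by
  haveI := Fact.mk h.primeL
  obtain ⟨Q, hQc, hQp, -, hQf⟩ := BG4.exists_critical_exponent hl2 hL
  haveI := hQc
  set Q' := Q.map L.subtype with hQ'
  have hQL : Q' ≤ L := map_subtype_le _
  have hnorm : ∀ B : Subgroup X, B ≤ normalizer (L : Set X) → B ≤ normalizer (Q' : Set X) :=
    fun B hB => hB.trans (normalizer_le_normalizer_map_char L Q)
  have hQexp : ∀ x ∈ Q', x ^ ℓ = 1 := by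
    rintro _ ⟨x, hx, rfl⟩
    rw [← map_pow, hQp x hx, map_one]
  have hT : T ≤ centralizer (Q' : Set X) :=
    h.le_centralizer_of_fixed_le (hL.to_le hQL) (hnorm T hTL) (hnorm R hRL)
      fun x hx => hTfix x ⟨hQL hx.1, hx.2⟩ (hQexp x hx.1)
  intro t ht
  haveI := Fact.mk h.primeQ
  let a : MulAut L := normalizerMonoidHom L ⟨t, hTL ht⟩
  have ha : a = 1 := by
    refine hQf a ?_ fun x hx => Subtype.ext ?_
    · refine Nat.Coprime.coprime_dvd_left (orderOf_map_dvd (normalizerMonoidHom L) _) ?_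
      rw [← Subgroup.orderOf_coe]
      refine Nat.Coprime.coprime_dvd_left (Subgroup.orderOf_dvd_natCard T ht) ?_
      obtain ⟨n, hn⟩ := IsPGroup.iff_card.mp h.isPGroup
      rw [hn]
      exact ((Nat.coprime_primes h.primeQ h.primeL).mpr h.q_ne).pow_left n
    · show t * x * t⁻¹ = x
      rw [← (mem_centralizer_iff.mp (hT ht) x (mem_map_of_mem _ hx) : (x : X) * t = t * x),
        mul_inv_cancel_right]
  intro x hx
  have h2 := congrArg Subtype.val (DFunLike.congr_fun ha (⟨x, hx⟩ : L))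
  have h3 : t * x * t⁻¹ = x := h2
  rw [mul_inv_eq_iff_eq_mul] at h3
  exact h3.symm

end PrimePair

end CfsgLib.OddOrder.BG13
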