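import Cfsg.Agent.OddOrder.BG11.Basic
import Cfsg.Agent.OddOrder.BG13.Fixed
import Cfsg.Agent.Solvable.Hall

/-!
# The facts of BG 10 and BG 12 used in BG 13, and general lemmas

`BG12Facts G` collects, for a fixed group, `BG10Facts G` and the parts of S1414, S1406, S1409,
S1417, S1418, S1420, S1423 and S1424 which are used in section 13.
-/

set_option autoImplicit false
set_option linter.style.haveILetI false
set_option linter.unusedSectionVars false

namespace CfsgLib.OddOrder.BG13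

open Cfsg Subgroup
open CfsgLib.OddOrder.BG11
open CfsgLib.ConjFunctor (IsSylowIn exists_isSylowIn_ge)

/-- The results of BG 10 and BG 12 used in BG 13. -/
structure BG12Facts (G : Type*) [Group G] : Prop where
  bg10 : BG10Facts G
  /-- BG 10.8 (S1414). -/
  betaCore : ∀ M : Subgroup G, IsCoatom M →
    Cfsg.IsPiHallOf (Cfsg.beta M) (Cfsg.piCoreOf (Cfsg.beta M) M) M
  /-- BG 10.3 (S1406). -/
  alphaUnique : ∀ M : Subgroup G, IsCoatom M → ∀ X : Subgroup G, X ≤ M →
    (∀ p : ℕ, p.Prime → p ∣ Nat.card X → p ∉ Cfsg.alpha M) →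
    ¬ Cfsg.RankLE 1 ↥(Cfsg.alphaCore M ⊓ Subgroup.centralizer (X : Set G)) →
      Cfsg.InUniqueMaximal (M ⊓ Subgroup.centralizer (X : Set G))
  /-- BG 10.5 (S1409). -/
  orderP : ∀ M : Subgroup G, IsCoatom M → ∀ (p : ℕ) [Fact p.Prime], p ∉ Cfsg.sigma M →
    ∀ X : Subgroup G, Nat.card X = p → normalizer (X : Set G) ≤ M →
      ¬ Cfsg.PRankLE p 1 M ∧
        ∃ A : Subgroup G, Cfsg.IsElementaryAbelian p A ∧ Nat.card A = p ^ 2 ∧ X ≤ A
  /-- BG 12.5 (S1417). -/
  tauTwo : ∀ M : Subgroup G, IsCoatom M → ∀ (p : ℕ) [Fact p.Prime], p ∈ Cfsg.tau2 M →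
    ∀ A : Subgroup G, A ≤ M → Cfsg.IsElementaryAbelian p A → Nat.card A = p ^ 2 →
      Group.IsNilpotent (Cfsg.sigmaCore M) ∧
        ∀ L : Subgroup G, IsCoatom L → L ≠ M → A ≤ L → Cfsg.sigmaCore M ⊓ L = ⊥
  /-- BG 12.6 (S1418). -/
  tauTwoCompl : ∀ M : Subgroup G, IsCoatom M → ∀ E : Subgroup G,
    Cfsg.IsComplIn E (Cfsg.sigmaCore M) M → ∀ (p : ℕ) [Fact p.Prime], p ∈ Cfsg.tau2 M →
      ∀ A : Subgroup G, A ≤ E → Cfsg.IsElementaryAbelian p A → Nat.card A = p ^ 2 →
        E ≤ normalizer (A : Set G) ∧ M ⊓ normalizer (A : Set G) = E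
  /-- BG 12.8 (S1420). -/
  sigmaNoncyclic : ∀ M : Subgroup G, IsCoatom M → ∀ (p : ℕ) (P : Subgroup G),
    p ∈ Cfsg.sigma M → IsPGroup p P → P ≤ M → ¬ IsCyclic P → normalizer (P : Set G) ≤ M
  /-- BG 12.11 (S1423). -/
  sigmaOrderP : ∀ M : Subgroup G, IsCoatom M → ∀ (p : ℕ) [Fact p.Prime], p ∈ Cfsg.sigma M →
    ∀ X : Subgroup G, X ≤ M → Nat.card X = p →
      (p ∈ Cfsg.beta M ∨ X ≤ ⁅Cfsg.sigmaCore M, Cfsg.sigmaCore M⁆) →
        centralizer (X : Set G) ≤ M
  /-- BG 12.12 (S1424). -/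
  otherMaximal : ∀ M : Subgroup G, IsCoatom M → ∀ (q : ℕ) [Fact q.Prime], q ∈ Cfsg.sigma M →
    ∀ X : Subgroup G, IsPGroup q X → X ≠ ⊥ → X ≤ M → ∀ L : Subgroup G, IsCoatom L → L ≠ M →
      normalizer (X : Set G) ≤ L →
        (∀ g : G, L ≠ M.map (MulAut.conj g).toMonoidHom) ∧
          ∀ S : Subgroup G, IsSylowIn q S (M ⊓ L) → X ≤ S →
            normalizer (S : Set G) ≤ M ∧ IsSylowIn q S L

/-! ### General group theory -/

section General

variable {G : Type*} [Group G] [Finite G]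

theorem relIndex_dvd_card_of_eq_sup {K L H : Subgroup G} (hn : H ≤ normalizer (K : Set G))
    (h : H = K ⊔ L) : L.relIndex H ∣ Nat.card K := by
  have hKH : K ≤ H := h ▸ le_sup_left
  have hLH : L ≤ H := h ▸ le_sup_right
  haveI : (K.subgroupOf H).Normal := (normal_subgroupOf_iff_le_normalizer hKH).2 hn
  have h1 : K.subgroupOf H ⊔ L.subgroupOf H = ⊤ := by
    rw [← subgroupOf_sup hKH hLH, ← h, subgroupOf_self]
  have h3 : (K.subgroupOf H).relIndex (L.subgroupOf H) = (K.subgroupOf H).index := by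
    rw [← relIndex_sup_right, sup_comm, h1, relIndex_top_right]
  have h2 := relIndex_mul_index (inf_le_right : K.subgroupOf H ⊓ L.subgroupOf H ≤ L.subgroupOf H)
  rw [inf_relIndex_right, h3] at h2
  have h5 := relIndex_mul_index (inf_le_left : K.subgroupOf H ⊓ L.subgroupOf H ≤ K.subgroupOf H)
  rw [← h2, inf_relIndex_left, mul_comm (L.subgroupOf H |>.relIndex _)] at h5
  have h6 : (L.subgroupOf H).relIndex (K.subgroupOf H) = (L.subgroupOf H).index :=
    Nat.eq_of_mul_eq_mul_left (Nat.pos_of_ne_zero index_ne_zero_of_finite) h5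
  rw [Subgroup.relIndex, ← h6, ← Nat.card_congr (subgroupOfEquivOfLe hKH).toEquiv]
  exact relIndex_dvd_card _ _

theorem commutator_le_sup_commutator {K L H : Subgroup G} (hn : H ≤ normalizer (K : Set G))
    (h : H = K ⊔ L) : ⁅H, H⁆ ≤ K ⊔ ⁅L, L⁆ := by
  have hKH : K ≤ H := h ▸ le_sup_left
  have hLH : L ≤ H := h ▸ le_sup_right
  haveI : (K.subgroupOf H).Normal := (normal_subgroupOf_iff_le_normalizer hKH).2 hn
  set f := QuotientGroup.mk' (K.subgroupOf H)
  have h1 : (L.subgroupOf H).map f = ⊤ := by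
    have h2 : K.subgroupOf H ⊔ L.subgroupOf H = ⊤ := by
      rw [← subgroupOf_sup hKH hLH, ← h, subgroupOf_self]
    rw [← map_top_of_surjective f (QuotientGroup.mk'_surjective _), ← h2, Subgroup.map_sup]
    simp [f]
  have h3 : (⁅(⊤ : Subgroup H), (⊤ : Subgroup H)⁆ : Subgroup H).map f = (⁅L.subgroupOf H, L.subgroupOf H⁆ : Subgroup H).map f := by
    rw [map_commutator, map_commutator, h1, map_top_of_surjective f (QuotientGroup.mk'_surjective _)]
  have h4 := congrArg (Subgroup.comap f) h3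
  rw [comap_map_eq, comap_map_eq] at h4
  have h5 : (⁅(⊤ : Subgroup H), (⊤ : Subgroup H)⁆ : Subgroup H) ≤ ⁅L.subgroupOf H, L.subgroupOf H⁆ ⊔ K.subgroupOf H := by
    calc (⁅(⊤ : Subgroup H), (⊤ : Subgroup H)⁆ : Subgroup H) ≤ (⁅(⊤ : Subgroup H), (⊤ : Subgroup H)⁆ : Subgroup H) ⊔ f.ker := le_sup_left
      _ = _ := by rw [h4]; simp [f]
  have h6 := map_mono (f := H.subtype) h5
  rw [map_commutator, Subgroup.map_sup, map_commutator, subgroupOf_map_subtype,
    subgroupOf_map_subtype, ← MonoidHom.range_eq_map, range_subtype, inf_eq_left.2 hLH,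
    inf_eq_left.2 hKH, sup_comm] at h6
  exact h6

/-- Sylow-type statement: if the primes of the index of `L` avoid `π`, the `π`-subgroups are
conjugate into `L`. -/
theorem exists_conj_le_of_relIndex {H L U : Subgroup G} [Group.IsSolvable H] {π : Set ℕ}
    (hLH : L ≤ H) (hUH : U ≤ H) (hU : IsPiSubgroup π U)
    (hidx : ∀ r : ℕ, r.Prime → r ∣ L.relIndex H → r ∉ π) :
    ∃ h ∈ H, U.map (MulAut.conj h).toMonoidHom ≤ L := by
  obtain ⟨K, hK⟩ := Solvable.exists_isPiHall π (L.subgroupOf H)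
  have hK' : Cfsg.IsPiHall π (K.map (L.subgroupOf H).subtype) := by
    refine ⟨fun r hr hd => hK.1 r hr (by rwa [card_map_of_injective (subtype_injective _)] at hd),
      fun r hr hrπ hd => ?_⟩
    rw [index_map_subtype] at hd
    rcases hr.dvd_mul.1 hd with h | h
    · exact hK.2 r hr hrπ h
    · exact hidx r hr h hrπ
  obtain ⟨g, hg⟩ := Solvable.exists_conj_le_isPiHall hK' (isPiSubgroup_subgroupOf (M := H) hU)
  refine ⟨g, g.2, ?_⟩
  rintro _ ⟨x, hx, rfl⟩
  have h1 := (hg.trans (map_subtype_le K)) (Coprime.conj_mem_conj_smul (g := g)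
    (show (⟨x, hUH hx⟩ : H) ∈ U.subgroupOf H from hx))
  simpa [mem_subgroupOf] using h1

/-- If the image of the commutator subgroup in `X/N` is nilpotent, the Frattini argument applies
to Sylow subgroups of the commutator subgroup. -/
theorem sup_normalizer_eq_top_of_nilpotent_image {X : Type*} [Group X] [Finite X] {q : ℕ}
    [Fact q.Prime] (N : Subgroup X) [N.Normal] (S : Sylow q X)
    (hS : (S : Subgroup X) ≤ _root_.commutator X)
    (hnil : Group.IsNilpotent ↥((_root_.commutator X).map (QuotientGroup.mk' N))) :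
    N ⊔ normalizer ((S : Subgroup X) : Set X) = ⊤ := by
  set f := QuotientGroup.mk' N
  have hf : Function.Surjective f := QuotientGroup.mk'_surjective N
  set D := (_root_.commutator X).map f
  haveI : D.Normal := Subgroup.Normal.map inferInstance f hf
  set T : Sylow q (X ⧸ N) := S.mapSurjective hf
  have hT : (T : Subgroup (X ⧸ N)) = (S : Subgroup X).map f := rfl
  have hTD : (T : Subgroup (X ⧸ N)) ≤ D := hT ▸ map_mono hS
  haveI := hnil
  haveI : ((T.subtype hTD : Sylow q D) : Subgroup D).Normal := inferInstance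
  haveI : ((T.subtype hTD : Sylow q D) : Subgroup D).Characteristic :=
    Sylow.characteristic_of_normal _ inferInstance
  haveI hTn : (T : Subgroup (X ⧸ N)).Normal := by
    have h : (T : Subgroup (X ⧸ N)) =
        ((T.subtype hTD : Sylow q D) : Subgroup D).map D.subtype := by
      rw [Sylow.coe_subtype, subgroupOf_map_subtype, inf_eq_left.2 hTD]
    rw [h]
    infer_instance
  haveI : ((S : Subgroup X) ⊔ N).Normal := by
    have h : (S : Subgroup X) ⊔ N = ((T : Subgroup (X ⧸ N))).comap f := by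
      rw [hT, comap_map_eq]; simp [f]
    rw [h]
    infer_instance
  have h := Sylow.normalizer_sup_eq_top' S (le_sup_left : (S : Subgroup X) ≤ (S : Subgroup X) ⊔ N)
  refine top_le_iff.1 (h.ge.trans (sup_le le_sup_right (sup_le ?_ le_sup_left)))
  exact (le_normalizer : (S : Subgroup X) ≤ normalizer ((S : Subgroup X) : Set X)).trans le_sup_right

/-- A subgroup of a cyclic group is normalized by the normalizer of the group. -/
theorem normalizer_le_normalizer_of_isCyclic {D Y : Subgroup G} (hD : IsCyclic D) (hYD : Y ≤ D) :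
    normalizer (D : Set G) ≤ normalizer (Y : Set G) := by
  intro g hg
  refine ConjFunctor.mem_normalizer_of_forall_conj_mem fun y hy => ?_
  obtain ⟨d, hd⟩ := hD.exists_generator
  obtain ⟨m, hm⟩ := mem_zpowers_iff.1 (hd ⟨y, hYD hy⟩)
  obtain ⟨n, hn⟩ := mem_zpowers_iff.1 (hd ⟨g * (d : G) * g⁻¹, (mem_normalizer_iff.1 hg _).1 d.2⟩)
  have h1 : (d : G) ^ m = y := by simpa using congrArg Subtype.val hm
  have h2 : (d : G) ^ n = g * (d : G) * g⁻¹ := by simpa using congrArg Subtype.val hn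
  have h3 : g * y * g⁻¹ = y ^ n := by
    rw [← h1, ← conj_zpow, ← h2, ← zpow_mul, ← zpow_mul, mul_comm]
  rw [h3]
  exact zpow_mem hy n

/-- A `q`-group `U` with `N_U(U ∩ L) ≤ L` lies in `L`. -/
theorem le_of_normalizer_inf_le {q : ℕ} [Fact q.Prime] {U L : Subgroup G} (hU : IsPGroup q U)
    (h : U ⊓ normalizer ((U ⊓ L : Subgroup G) : Set G) ≤ L) : U ≤ L := by
  by_contra hUL
  have hlt : U ⊓ L < U := lt_of_le_of_ne inf_le_left fun e => hUL (inf_eq_left.1 e)
  exact (not_le_of_gt (ConjFunctor.lt_inf_normalizer hU hlt)) (le_inf inf_le_left h)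

/-- A subgroup of order `q` in a nontrivial `q`-group. -/
theorem exists_card_prime_le {q : ℕ} [Fact q.Prime] {U : Subgroup G} (hU : IsPGroup q U)
    (hU1 : U ≠ ⊥) : ∃ Y ≤ U, Nat.card Y = q := by
  obtain ⟨n, hn⟩ := IsPGroup.iff_card.1 hU
  have h0 : n ≠ 0 := by
    rintro rfl
    exact hU1 (Subgroup.card_eq_one.1 (by simpa using hn))
  obtain ⟨x, hx⟩ := exists_prime_orderOf_dvd_card' (G := U) q (hn ▸ dvd_pow_self q h0)
  exact ⟨(zpowers x).map U.subtype, map_subtype_le _, by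
    rw [card_map_of_injective U.subtype_injective, Nat.card_zpowers, hx]⟩

end General

/-! ### Maximal subgroups -/

section Maximal

variable {G : Type*} [Group G] [Finite G] {p q : ℕ} {M H : Subgroup G}

theorem not_conj_symm (h : ∀ g : G, H ≠ M.map (MulAut.conj g).toMonoidHom) :
    ∀ g : G, M ≠ H.map (MulAut.conj g).toMonoidHom := by
  intro g e
  refine h g⁻¹ ?_
  rw [e, map_conj_map_conj, inv_mul_cancel, map_conj_one]

theorem ne_of_not_conj (h : ∀ g : G, H ≠ M.map (MulAut.conj g).toMonoidHom) : H ≠ M :=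
  fun e => h 1 (by rw [map_conj_one, e])

theorem le_normalizer_betaCore (H : Subgroup G) :
    H ≤ normalizer (Cfsg.piCoreOf (Cfsg.beta H) H : Set G) :=
  le_normalizer_piCoreOf (Cfsg.beta H) H

variable (F : BG12Facts G) (hG : Cfsg.IsMinSimpleOddOrder G)
include F hG

theorem not_alpha_of_sigma [Fact p.Prime] (hM : IsCoatom M) (hH : IsCoatom H)
    (hnc : ∀ g : G, H ≠ M.map (MulAut.conj g).toMonoidHom) (hp : p ∈ Cfsg.sigma M) :
    p ∉ Cfsg.alpha H := fun h =>
  let ⟨g, hg⟩ := (exists_conj_of_alpha F.bg10 hG hM hH hp h).2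
  hnc g hg

theorem disjoint_sigma_of_nilpotent (hM : IsCoatom M) (hH : IsCoatom H)
    (hnc : ∀ g : G, H ≠ M.map (MulAut.conj g).toMonoidHom)
    (hnil : Group.IsNilpotent (Cfsg.sigmaCore H)) :
    Disjoint (Cfsg.sigma M) (Cfsg.sigma H) := by
  rw [Set.disjoint_left]
  intro r hrM hrH
  haveI := Fact.mk hrM.1
  obtain ⟨T, hT⟩ := exists_isSylowIn (p := r) H
  obtain ⟨S, hS⟩ := exists_isSylowIn (p := r) M
  have hTs := pGroup_le_sigmaCore F.bg10 hH hrH hT.le hT.isPGroup
  haveI := hnil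
  set P : Sylow r (Cfsg.sigmaCore H) := (hT.isPGroup.comap_subtype).toSylow
    (show ¬ r ∣ (T.subgroupOf (Cfsg.sigmaCore H)).index from
      (hT.of_le hTs (sigmaCore_le H)).not_dvd)
  haveI : (P : Subgroup ↥(Cfsg.sigmaCore H)).Normal := inferInstance
  haveI : (P : Subgroup ↥(Cfsg.sigmaCore H)).Characteristic :=
    P.characteristic_of_normal inferInstance
  have hP : (P : Subgroup ↥(Cfsg.sigmaCore H)).map (Cfsg.sigmaCore H).subtype = T := by
    change (T.subgroupOf _).map _ = T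
    rw [subgroupOf_map_subtype, inf_eq_left.2 hTs]
  have hHT : H ≤ normalizer (T : Set G) := by
    rw [← hP]
    exact (le_normalizer_sigmaCore H).trans (normalizer_le_normalizer_map_char _ _)
  obtain ⟨a, -, ha⟩ := (isSylowIn_top_of_sigma F.bg10 hM hrM hS).exists_cj_eq
    (isSylowIn_top_of_sigma F.bg10 hH hrH hT)
  have hTM : normalizer (T : Set G) ≤ M.map (MulAut.conj a⁻¹).toMonoidHom := by
    have h1 : T = S.map (MulAut.conj a⁻¹).toMonoidHom := by
      rw [← ha, map_conj_map_conj, inv_mul_cancel, map_conj_one]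
    rw [h1, ConjFunctor.normalizer_cj]
    exact map_mono (normalizer_le_of_sigma hrM hS)
  exact hnc a⁻¹ ((hH.le_iff.1 (hHT.trans hTM)).resolve_left (isCoatom_map_conj hM a⁻¹).1).symm

/-- Every `σ(H)'`-subgroup of `H` lies in a complement of `H_σ`. -/
theorem exists_complIn_ge (hH : IsCoatom H) {U : Subgroup G} (hUH : U ≤ H)
    (hU : ∀ r : ℕ, r.Prime → r ∣ Nat.card U → r ∉ Cfsg.sigma H) :
    ∃ E : Subgroup G, U ≤ E ∧ Cfsg.IsComplIn E (Cfsg.sigmaCore H) H := by
  haveI := minSimple_coatom_solvable hG hH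
  obtain ⟨E, hE, hUE⟩ := Solvable.exists_isPiHall_ge (π := {r | r.Prime ∧ r ∉ Cfsg.sigma H})
    (U := U.subgroupOf H) (fun r hr hd => ⟨hr, hU r hr (by
      rwa [Nat.card_congr (subgroupOfEquivOfLe hUH).toEquiv] at hd)⟩)
  have hcore := (F.bg10.sigmaHall H hH).1
  have hcop : (Nat.card E).Coprime (Nat.card ((Cfsg.sigmaCore H).subgroupOf H)) := by
    refine Nat.coprime_of_dvd fun r hr hd1 hd2 => (hE.1 r hr hd1).2 ?_
    rw [Nat.card_congr (subgroupOfEquivOfLe (sigmaCore_le H)).toEquiv] at hd2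
    exact hcore.2.1 r hr hd2
  have hcard : Nat.card E * Nat.card ((Cfsg.sigmaCore H).subgroupOf H) = Nat.card H := by
    refine Nat.dvd_antisymm (hcop.mul_dvd_of_dvd_of_dvd (card_subgroup_dvd_card _)
      (card_subgroup_dvd_card _)) ?_
    refine (Nat.dvd_gcd (dvd_refl (Nat.card H)) ?_).trans (Nat.gcd_dvd_right _ _)
    have h1 : E.index.Coprime ((Cfsg.sigmaCore H).subgroupOf H).index := by
      refine Nat.coprime_of_dvd fun r hr hd1 hd2 => ?_
      exact hE.2 r hr ⟨hr, fun hs => hcore.2.2 r hr hs hd2⟩ hd1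
    have h2 : E.index ∣ Nat.card ((Cfsg.sigmaCore H).subgroupOf H) := by
      have h3 : E.index ∣ Nat.card ((Cfsg.sigmaCore H).subgroupOf H) *
          ((Cfsg.sigmaCore H).subgroupOf H).index := by
        rw [card_mul_index]; exact index_dvd_card _
      exact h1.dvd_of_dvd_mul_right h3
    rw [← card_mul_index E]
    exact Nat.mul_dvd_mul_left _ h2
  have hc : IsComplement' E ((Cfsg.sigmaCore H).subgroupOf H) :=
    isComplement'_of_coprime hcard hcop
  refine ⟨E.map H.subtype, ?_, map_subtype_le _, sigmaCore_le H, ?_, fun m hm => ?_⟩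
  · intro x hx
    exact ⟨⟨x, hUH hx⟩, hUE hx, rfl⟩
  · have h := congrArg (Subgroup.map H.subtype) hc.disjoint.eq_bot
    rwa [Subgroup.map_inf _ _ _ H.subtype_injective, subgroupOf_map_subtype,
      inf_eq_left.2 (sigmaCore_le H), Subgroup.map_bot] at h
  · obtain ⟨⟨a, b⟩, hab, -⟩ := hc.existsUnique (⟨m, hm⟩ : H)
    exact ⟨(a : H), ⟨_, a.2, rfl⟩, ((b : H) : G), b.2, (congrArg Subtype.val hab).symm⟩

end Maximal

end CfsgLib.OddOrder.BG13
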