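import Cfsg.Agent.OddOrder.BG13.PrimeTools
import Cfsg.Agent.OddOrder.BG7.Superset
import Cfsg.Agent.Coprime.Action

/-!
# Cyclic Sylow subgroups of a complement act with constant fixed points (BG 13, S1427)
-/

set_option autoImplicit false
set_option linter.style.haveILetI false
set_option linter.unusedSectionVars false

namespace CfsgLib.OddOrder.BG13

open Cfsg Subgroup
open CfsgLib.OddOrder.BG11
open CfsgLib.ConjFunctor (IsSylowIn exists_isSylowIn_ge)

variable {G : Type*} [Group G] [Finite G] {p : ℕ} {M : Subgroup G}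

theorem eq_sup_of_complIn {E : Subgroup G} (hE : Cfsg.IsComplIn E (Cfsg.sigmaCore M) M) :
    M = Cfsg.sigmaCore M ⊔ E :=
  le_antisymm (fun m hm => by
      obtain ⟨e, he, y, hy, rfl⟩ := hE.2.2.2 m hm
      exact mul_mem (mem_sup_right he) (mem_sup_left hy))
    (sup_le (sigmaCore_le M) hE.1)

/-- A cyclic Sylow subgroup bounds the rank by one. -/
theorem pRankLE_one_of_isCyclic [Fact p.Prime] {S : Subgroup G} (hS : IsSylowIn p S M)
    (hSc : IsCyclic S) : Cfsg.PRankLE p 1 M := by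
  by_contra hc
  obtain ⟨A, hAM, hA, hAc⟩ := exists_elementary_of_not_pRankLE hc
  obtain ⟨a, -, haS⟩ := hS.exists_cj_le hAM (isPGroup_of_isElementaryAbelian hA)
  set A' := A.map (MulAut.conj a).toMonoidHom
  haveI := hSc
  haveI : IsCyclic A' := Subgroup.isCyclic_of_le haS
  have hA' : Cfsg.IsElementaryAbelian p A' := isElementaryAbelian_map (MulAut.conj a).toMonoidHom hA
  obtain ⟨g, hg⟩ := IsCyclic.exists_ofOrder_eq_natCard (α := A')
  have h1 : orderOf g ∣ p := orderOf_dvd_of_pow_eq_one (Subtype.ext (hA'.2 g g.2))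
  have h2 := Nat.le_of_dvd (Fact.out : p.Prime).pos h1
  rw [hg, card_map_conj] at h2
  have h3 := hAc.trans h2
  have := (Fact.out : p.Prime).one_lt
  rw [show p ^ (1 + 1) = p * p by ring] at h3
  nlinarith

variable (F : BG12Facts G) (hG : Cfsg.IsMinSimpleOddOrder G)
include F hG

/-- Primes of a complement of `M_σ` lie outside `σ(M)`. -/
theorem not_sigma_of_le_complIn [Fact p.Prime] (hM : IsCoatom M) {E S : Subgroup G}
    (hE : Cfsg.IsComplIn E (Cfsg.sigmaCore M) M) (hSE : S ≤ E) (hS : IsPGroup p S) (hS1 : S ≠ ⊥) :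
    p ∉ Cfsg.sigma M := fun hp => hS1 (le_bot_iff.1 (hE.2.2.1 ▸ le_inf hSE
      (pGroup_le_sigmaCore F.bg10 hM hp (hSE.trans hE.1) hS)))

theorem isSylowIn_of_complIn [Fact p.Prime] (hpM : p ∉ Cfsg.sigma M) {E S : Subgroup G}
    (hE : Cfsg.IsComplIn E (Cfsg.sigmaCore M) M) (hS : IsSylowIn p S E) : IsSylowIn p S M := by
  refine ⟨hS.le.trans hE.1, hS.isPGroup, fun hd => ?_⟩
  rw [← relIndex_mul_relIndex S E M hS.le hE.1] at hd
  rcases (Fact.out : p.Prime).dvd_mul.1 hd with h | h
  · exact hS.not_dvd h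
  · exact hpM (isPiSubgroup_sigmaCore M p Fact.out
      (h.trans (relIndex_dvd_card_of_eq_sup (le_normalizer_sigmaCore M) (eq_sup_of_complIn hE))))

/-- The key step of S1427. -/
theorem inf_centralizer_le_of_isCyclic [Fact p.Prime] (hM : IsCoatom M) (hpM : p ∉ Cfsg.sigma M)
    {S X : Subgroup G} (hS : IsSylowIn p S M) (hSc : IsCyclic S) (hXS : X ≤ S)
    (hX : Nat.card X = p) :
    Cfsg.sigmaCore M ⊓ centralizer (X : Set G) ≤ centralizer (S : Set G) := by
  have hp1 := pRankLE_one_of_isCyclic hS hSc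
  haveI := hSc
  have hSX : S ≤ centralizer (X : Set G) := by
    letI : CommGroup S := IsCyclic.commGroup
    intro s hs
    refine mem_centralizer_iff.2 fun x hx => ?_
    exact congrArg Subtype.val (mul_comm (⟨x, hXS hx⟩ : S) ⟨s, hs⟩)
  set K := Cfsg.sigmaCore M ⊓ centralizer (X : Set G)
  have hSK : S ≤ normalizer (K : Set G) :=
    (le_inf (hS.le.trans (le_normalizer_sigmaCore M))
      ((hSX.trans (centralizer_le_normalizer _)).trans
        (normalizer_le_normalizer_centralizer_subgroup X))).trans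
      (Subgroup.inf_normalizer_le_normalizer_inf)
  have hKs : IsPiSubgroup (Cfsg.sigma M) K :=
    isPiSubgroup_mono inf_le_left (isPiSubgroup_sigmaCore M)
  have hcop : (Nat.card S).Coprime (Nat.card K) := by
    obtain ⟨n, hn⟩ := IsPGroup.iff_card.1 hS.isPGroup
    rw [hn]
    exact Nat.Coprime.pow_left n
      ((Fact.out : p.Prime).coprime_iff_not_dvd.2 fun h => hpM (hKs p Fact.out h))
  by_contra hcon
  set T := ⁅K, S⁆
  have hTK : T ≤ K := CfsgLib.Coprime.commutator_le_of_le_normalizer hSK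
  have hT1 : T ≠ ⊥ := fun h => hcon (commutator_eq_bot_iff_le_centralizer.1 h)
  have hTT : ⁅T, S⁆ = T := CfsgLib.Coprime.commutator_commutator_eq hSK hcop
  have hXp := isPGroup_of_card_prime hX
  obtain ⟨H, hH, hNH⟩ := minSimple_exists_coatom hG (minSimple_normalizer_ne_top hG
    (ne_bot_of_card_prime hX) (minSimple_ne_top_of_isPGroup hG hXp))
  have hnc := not_conj_of_rank_one F hG hM hpM hp1 hX hH hNH
  have hCH : centralizer (X : Set G) ≤ H := (centralizer_le_normalizer _).trans hNH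
  have hTH : T ≤ H := hTK.trans (inf_le_right.trans hCH)
  have hTH' : T ≤ ⁅H, H⁆ := hTT ▸ commutator_mono hTH (hSX.trans hCH)
  have hTs : IsPiSubgroup (Cfsg.sigma M) T := isPiSubgroup_mono hTK hKs
  have hTa := inf_alphaCore_eq_bot F hG hM hH hnc hTs
  have hST : S ≤ normalizer (T : Set G) := normalizer_commutator_ge_right K S
  by_cases hpH : p ∈ Cfsg.sigma H
  · have hSH : S ≤ ⁅H, H⁆ :=
      (pGroup_le_sigmaCore F.bg10 hH hpH (hSX.trans hCH) hS.isPGroup).trans
        (sigmaCore_le_derived F.bg10 hG hH)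
    have h1 := commutator_le_alphaCore F hG hH hTH' hSH
      (Nat.Coprime.coprime_dvd_left (card_dvd_of_le hTK) hcop.symm)
    rw [hTT] at h1
    exact hT1 (le_bot_iff.1 (hTa ▸ le_inf le_rfl h1))
  · have hτ := tau_two_of_normalizer_le F hG hH hpH hX hNH
    have hTn := isNilpotent_of_le_derived F hG hH hTH' hTa
    obtain ⟨q, hq, hqd⟩ := Nat.exists_prime_and_dvd fun h => hT1 (Subgroup.card_eq_one.1 h)
    haveI := Fact.mk hq
    obtain ⟨Q, hQT, hQ, hQ1, hNQ, -⟩ := exists_part_of_commutator_eq hTn hST hTT hqd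
    exact tau_two_false F hG hM hH hnc hτ hp1 (hTs q hq hqd) hQ hQ1
      (hQT.trans (hTK.trans (inf_le_left.trans (sigmaCore_le M)))) (hQT.trans hTH') hX
      (hXS.trans hS.le) ((hXS.trans hST).trans hNQ)

/-- BG 13 (S1427). -/
theorem inf_centralizer_eq_of_isCyclic [Fact p.Prime] (hM : IsCoatom M) {E S : Subgroup G}
    (hE : Cfsg.IsComplIn E (Cfsg.sigmaCore M) M) (hS : IsSylowIn p S E) (hS1 : S ≠ ⊥)
    (hSc : IsCyclic S) {x : G} (hx : x ∈ S) (hx1 : x ≠ 1) :
    Cfsg.sigmaCore M ⊓ centralizer ({x} : Set G) =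
      Cfsg.sigmaCore M ⊓ centralizer (S : Set G) := by
  have hpM := not_sigma_of_le_complIn F hG hM hE hS.le hS.isPGroup hS1
  refine le_antisymm ?_ (inf_le_inf_left _ (centralizer_le (Set.singleton_subset_iff.2 hx)))
  obtain ⟨X, hXx, hX⟩ := exists_card_prime_le (hS.isPGroup.to_le (zpowers_le.2 hx))
    (by simpa using hx1)
  refine le_inf inf_le_left (le_trans (inf_le_inf_left _ ?_) (inf_centralizer_le_of_isCyclic F hG hM
    hpM (isSylowIn_of_complIn F hG hpM hE hS) hSc (hXx.trans (zpowers_le.2 hx)) hX))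
  rw [← centralizer_zpowers]
  exact centralizer_le hXx

end CfsgLib.OddOrder.BG13
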