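import Cfsg.Agent.OddOrder.BG13.PreAlpha
import Cfsg.Agent.OddOrder.BG13.CyclicSylow

/-!
# Centralizers in `M_σ` of commuting elements of prime order of a complement (BG 13, S1428)
-/

set_option autoImplicit false
set_option linter.style.haveILetI false
set_option linter.unusedSectionVars false

namespace CfsgLib.OddOrder.BG13

open Cfsg Subgroup
open CfsgLib.OddOrder.BG11
open CfsgLib.ConjFunctor (IsSylowIn exists_isSylowIn_ge)
open scoped commutatorElement

variable {G : Type*} [Group G] [Finite G] {p q r : ℕ} {M : Subgroup G}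

theorem card_eq_sq_of_rank_two [Fact r.Prime] {A : Subgroup G} (hr2 : Cfsg.PRankLE r 2 M)
    (hAM : A ≤ M) (hA : Cfsg.IsElementaryAbelian r A) (hc : r ^ 2 ≤ Nat.card A) :
    Nat.card A = r ^ 2 := by
  obtain ⟨n, hn⟩ := IsPGroup.iff_card.1 (isPGroup_of_isElementaryAbelian hA)
  have h2 : ¬ r ^ 3 ≤ Nat.card A := fun h3 => not_pRankLE_of_le hAM hA h3 hr2
  rw [hn] at hc h2 ⊢
  rw [Nat.pow_le_pow_iff_right (Fact.out : r.Prime).one_lt] at hc h2
  congr 1
  omega

variable (F : BG12Facts G) (hG : Cfsg.IsMinSimpleOddOrder G)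
include F hG

/-- In the configuration of S1428, `r ∈ τ₁(M)`. -/
theorem PreData.tau_one_r {H P R Q : Subgroup G} (d : PreData p r q M H P R Q)
    (hqH : q ∈ Cfsg.sigma H) (heq : H = Cfsg.piCoreOf (Cfsg.beta H) H ⊔ (M ⊓ H)) :
    r ∈ Cfsg.tau1 M := by
  haveI := Fact.mk d.primeR
  haveI := Fact.mk d.primeQ
  have hQH : Q ≤ H := d.QH.trans (commutator_le_self H)
  have hQM : Q ≤ M := d.QM.trans (sigmaCore_le M)
  have hQM' : Q ≤ ⁅M, M⁆ := d.QM.trans (sigmaCore_le_derived F.bg10 hG d.maxM)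
  have hr2 := pRankLE_two_of_not_sigma F.bg10 d.maxM d.rNotSigma
  have hr1 : Cfsg.PRankLE r 1 M := by
    by_contra hr1
    have hτ : r ∈ Cfsg.tau2 M := ⟨d.primeR, d.rNotSigma, hr2, hr1⟩
    by_cases hrH : Cfsg.PRankLE r 1 H
    · exact tau_two_false F hG d.maxH d.maxM (not_conj_symm d.nonconj) hτ hrH hqH d.isPGroup
        d.ne_bot hQH hQM' d.cardR d.RH d.norm
    · obtain ⟨A₀, hA₀H, hA₀, hA₀c⟩ := exists_elementary_of_not_pRankLE hrH
      haveI := minSimple_coatom_solvable hG d.maxH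
      obtain ⟨b, -, hb⟩ := exists_conj_le_of_relIndex (L := M ⊓ H) (π := ({r} : Set ℕ))
        inf_le_right hA₀H
        (isPiSubgroup_of_isPGroup (isPGroup_of_isElementaryAbelian hA₀) rfl) fun s hs hd hs' => by
        have h1 := isPiSubgroup_piCoreOf _ _ s hs
          (hd.trans (relIndex_dvd_card_of_eq_sup (le_normalizer_betaCore H) heq))
        rw [Set.mem_singleton_iff.1 hs'] at h1
        exact (F.bg10.rankTwo M d.maxM r d.rNotSigma hr2 hr1).1 h1.2
      set A := A₀.map (MulAut.conj b).toMonoidHom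
      have hA : Cfsg.IsElementaryAbelian r A :=
        isElementaryAbelian_map (MulAut.conj b).toMonoidHom hA₀
      have hAc : Nat.card A = r ^ 2 :=
        card_eq_sq_of_rank_two hr2 (hb.trans inf_le_left) hA (by rwa [card_map_conj])
      have h := (F.tauTwo M d.maxM r hτ A (hb.trans inf_le_left) hA hAc).2 H d.maxH
        (ne_of_not_conj d.nonconj) (hb.trans inf_le_right)
      exact d.ne_bot (le_bot_iff.1 (h ▸ le_inf d.QM hQH))
  refine ⟨d.primeR, d.rNotSigma, d.cardR ▸ card_dvd_of_le d.RM, fun hd => ?_, hr1⟩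
  -- `R ≤ M'` is impossible
  obtain ⟨x, hx⟩ := exists_prime_orderOf_dvd_card' (G := ↥⁅M, M⁆) r hd
  set R₁ := (zpowers x).map (⁅M, M⁆ : Subgroup G).subtype
  have hR₁c : Nat.card R₁ = r := by
    rw [card_map_of_injective (subtype_injective _), Nat.card_zpowers, hx]
  obtain ⟨m, hm, hmR⟩ := exists_map_conj_eq_of_rank_one hr1
    ((map_subtype_le _).trans (commutator_le_self M)) hR₁c d.RM d.cardR
  have hR : R ≤ ⁅M, M⁆ := by
    rw [← hmR]
    refine (map_mono (map_subtype_le _)).trans ?_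
    rw [map_commutator, map_conj_eq_self_of_mem hm]
  have h1 := commutator_le_alphaCore F hG d.maxM hQM' hR
    (coprime_of_isPGroup_ne d.primeQ d.primeR d.q_ne_r.symm
      (isPGroup_of_card_prime d.cardR) d.isPGroup).symm
  rw [d.eq] at h1
  obtain ⟨Y, hYQ, hY⟩ := exists_card_prime_le d.isPGroup d.ne_bot
  exact not_alpha_of_sigma F hG d.maxH d.maxM (not_conj_symm d.nonconj) hqH
    (isPiSubgroup_piCoreOf (Cfsg.alpha M) M q d.primeQ (hY ▸ card_dvd_of_le (hYQ.trans h1)))

/-- BG 13 (S1428). -/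
theorem inf_centralizer_le_of_tau_one (hM : IsCoatom M) {E : Subgroup G}
    (hE : Cfsg.IsComplIn E (Cfsg.sigmaCore M) M) (hp : p ∈ Cfsg.tau1 M) {P R : Subgroup G}
    (hPE : P ≤ E) (hP : Nat.card P = p) (hRE : R ≤ E ⊓ centralizer (P : Set G))
    (hR : (Nat.card R).Prime) :
    Cfsg.sigmaCore M ⊓ centralizer (P : Set G) ≤
      Cfsg.sigmaCore M ⊓ centralizer (R : Set G) := by
  haveI := Fact.mk hp.1
  haveI := Fact.mk hR
  refine le_inf inf_le_left ?_
  have hPM : P ≤ M := hPE.trans hE.1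
  have hRM : R ≤ M := (hRE.trans inf_le_left).trans hE.1
  have hRP : R ≤ centralizer (P : Set G) := hRE.trans inf_le_right
  have hPp := isPGroup_of_card_prime hP
  have hRp : IsPGroup (Nat.card R) R := isPGroup_of_card_prime rfl
  have hrM : Nat.card R ∉ Cfsg.sigma M :=
    not_sigma_of_le_complIn F hG hM hE (hRE.trans inf_le_left) hRp (ne_bot_of_card_prime rfl)
  by_cases hrp : Nat.card R = p
  · have hPR : P = R := by
      by_contra hne
      exact not_pRankLE_one_of_card_sq (sup_le hPM hRM)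
        (isElementaryAbelian_sup (isElementaryAbelian_of_card_prime hP) hrp hRP)
        (card_sup_eq_sq hP hrp (hRP.trans (centralizer_le_normalizer _)) hne) hp.2.2.2.2
    rw [hPR]
    exact inf_le_right
  by_contra hcon
  set K := Cfsg.sigmaCore M ⊓ centralizer (P : Set G)
  have hRK : R ≤ normalizer (K : Set G) :=
    (le_inf (hRM.trans (le_normalizer_sigmaCore M))
      ((hRP.trans (centralizer_le_normalizer _)).trans
        (normalizer_le_normalizer_centralizer_subgroup P))).trans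
      Subgroup.inf_normalizer_le_normalizer_inf
  have hcop : (Nat.card R).Coprime (Nat.card K) := hR.coprime_iff_not_dvd.2 fun h =>
    hrM (isPiSubgroup_mono inf_le_left (isPiSubgroup_sigmaCore M) _ hR h)
  set T := ⁅K, R⁆
  have hTK : T ≤ K := CfsgLib.Coprime.commutator_le_of_le_normalizer hRK
  have hT1 : T ≠ ⊥ := fun h => hcon (commutator_eq_bot_iff_le_centralizer.1 h)
  obtain ⟨q, hq, hqT⟩ := Nat.exists_prime_and_dvd fun h => hT1 (Subgroup.card_eq_one.1 h)
  haveI := Fact.mk hq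
  obtain ⟨H, Q, d⟩ := exists_preData F hG hM hp hP hPM hR rfl hRM hRP hrM hrp hTK
    (normalizer_commutator_ge_right K R) (CfsgLib.Coprime.commutator_commutator_eq hRK hcop)
    hq hqT
  obtain ⟨Y, hYQ, hY, hNY, hqH, heq, S, hStop, hSMH, -⟩ := d.main F hG
  have hpH := d.p_mem_alpha F hG
  have hqa : q ∉ Cfsg.alpha M :=
    not_alpha_of_sigma F hG d.maxH hM (not_conj_symm d.nonconj) hqH
  -- `M_α ≰ H`
  have hSH : normalizer (S : Set G) ≤ H :=
    normalizer_le_of_sigma hqH (isSylowIn_sylowTop_le hStop (hSMH.trans inf_le_right))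
  have hSM := isSylowIn_sylowTop_le hStop (hSMH.trans inf_le_left)
  have hMeq := eq_sup_normalizer hSM
    ((pGroup_le_sigmaCore F.bg10 hM d.sigmaQ hSM.le hSM.isPGroup).trans
      (sigmaCore_le_derived F.bg10 hG hM)) (F.bg10.alphaHall M hM).2.2
  set Mα := Cfsg.alphaCore M
  have hαM : Mα ≤ M := piCoreOf_le (Cfsg.alpha M) M
  have hnα : M ≤ normalizer (Mα : Set G) := le_normalizer_piCoreOf (Cfsg.alpha M) M
  have hnot : ¬ Mα ≤ H := by
    intro h
    refine ne_of_not_conj d.nonconj ((hM.le_iff.1 ?_).resolve_left d.maxH.1)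
    rw [hMeq]
    exact sup_le h (inf_le_right.trans hSH)
  -- `M_α ∩ H` centralizes `P`
  have hA0 : Mα ⊓ H ≤ centralizer (P : Set G) := by
    intro x hx
    refine mem_centralizer_iff.2 fun y hy => ?_
    have hyα : y ∈ Cfsg.alphaCore H := le_of_isPiHallOf_normal (F.bg10.alphaHall H d.maxH).1
      (le_normalizer_piCoreOf (Cfsg.alpha H) H) d.PH (isPiSubgroup_of_isPGroup hPp hpH) hy
    have hbot : Mα ⊓ Cfsg.alphaCore H = ⊥ :=
      inf_alphaCore_eq_bot F hG hM d.maxH d.nonconj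
        (isPiSubgroup_of_subset (alpha_subset_sigma F.bg10 hM)
          (isPiSubgroup_piCoreOf (Cfsg.alpha M) M))
    obtain ⟨hx1, hx2⟩ := mem_inf.1 hx
    have h1 : ⁅x, y⁆ ∈ Mα ⊓ Cfsg.alphaCore H := by
      refine mem_inf.2 ⟨?_, ?_⟩
      · rw [commutatorElement_def, mul_assoc, mul_assoc, ← mul_assoc y]
        exact mul_mem hx1 ((mem_normalizer_iff.1 (hnα (hPM hy)) x⁻¹).1 (inv_mem hx1))
      · rw [commutatorElement_def]
        exact mul_mem ((mem_normalizer_iff.1 (le_normalizer_piCoreOf (Cfsg.alpha H) H hx2) y).1 hyα)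
          (inv_mem hyα)
    rw [hbot, mem_bot, commutatorElement_eq_one_iff_mul_comm] at h1
    exact h1.symm
  -- an invariant Sylow subgroup of `M_α` not centralized by `P`
  have hPQR : P ≤ centralizer ((Q ⊔ R : Subgroup G) : Set G) :=
    le_centralizer_iff.1 (sup_le d.QP hRP)
  set B := (Q ⊔ R) ⊔ P
  have hBM : B ≤ M := sup_le (sup_le (d.QM.trans (sigmaCore_le M)) hRM) hPM
  have hBcop : (Nat.card B).Coprime (Nat.card Mα) := by
    refine Nat.coprime_of_dvd fun s hs hd1 hd2 => ?_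
    have hsα := isPiSubgroup_piCoreOf (Cfsg.alpha M) M s hs hd2
    have h1 := hd1.trans ((card_sup_dvd_mul (hPQR.trans (centralizer_le_normalizer _))).trans
      (Nat.mul_dvd_mul_right (card_sup_dvd_mul d.norm) _))
    rcases hs.dvd_mul.1 h1 with h | h
    · rcases hs.dvd_mul.1 h with h | h
      · obtain ⟨n, hn⟩ := IsPGroup.iff_card.1 d.isPGroup
        rw [hn] at h
        exact hqa ((Nat.prime_dvd_prime_iff_eq hs hq).1 (hs.dvd_of_dvd_pow h) ▸ hsα)
      · exact hrM ((Nat.prime_dvd_prime_iff_eq hs hR).1 h ▸ alpha_subset_sigma F.bg10 hM hsα)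
    · rw [hP] at h
      exact hp.2.1 ((Nat.prime_dvd_prime_iff_eq hs hp.1).1 h ▸ alpha_subset_sigma F.bg10 hM hsα)
  have hsolv : Group.IsSolvable Mα :=
    minSimple_solvable hG fun h => hM.1 (top_le_iff.1 (h ▸ hαM))
  obtain ⟨ℓ, hℓ, L, hBL, hLP⟩ : ∃ ℓ : ℕ, ℓ.Prime ∧ ∃ L : Sylow ℓ Mα,
      B ≤ normalizer (((L : Subgroup Mα).map Mα.subtype : Subgroup G) : Set G) ∧
        ¬ (L : Subgroup Mα).map Mα.subtype ≤ centralizer (P : Set G) := by
    by_contra hall
    push Not at hall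
    refine hnot ((BG4.le_of_sylow_le fun s hs => ?_).trans
      ((centralizer_le_normalizer _).trans d.normP))
    haveI := Fact.mk hs
    obtain ⟨L, hL⟩ := CfsgLib.Coprime.exists_invariant_sylow (hBM.trans hnα) hBcop (Or.inr hsolv) s
    exact ⟨L, hall s hs L hL⟩
  haveI := Fact.mk hℓ
  set L' := (L : Subgroup Mα).map Mα.subtype
  have hL'p : IsPGroup ℓ L' := L.2.map _
  have hL'1 : L' ≠ ⊥ := fun h => hLP (h ▸ bot_le)
  obtain ⟨Z, hZL, hZ⟩ := exists_card_prime_le hL'p hL'1
  have hℓα : ℓ ∈ Cfsg.alpha M := isPiSubgroup_piCoreOf (Cfsg.alpha M) M ℓ hℓ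
    (hZ ▸ card_dvd_of_le (hZL.trans (map_subtype_le _)))
  have hℓσ := alpha_subset_sigma F.bg10 hM hℓα
  have hpair : PrimePair ℓ q Q R :=
    { primeL := hℓ
      primeQ := hq
      isPGroup := d.isPGroup
      primeR := hR
      norm := d.norm
      comm_eq := d.eq
      q_ne_two := minSimple_prime_ne_two_subgroup hG (dvd_card_of_sigma d.sigmaQ)
      r_ne_two := minSimple_prime_ne_two_subgroup hG (dvd_refl (Nat.card R))
      q_ne := fun h => hqa (h ▸ hℓα)
      r_ne := fun h => hrM (h ▸ hℓσ)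
      r_ne_q := d.q_ne_r.symm }
  have hRL : R ≤ normalizer (L' : Set G) := (le_sup_right.trans le_sup_left).trans hBL
  have hPL : P ≤ normalizer (L' : Set G) := le_sup_right.trans hBL
  have hfixR : ¬ L' ⊓ centralizer (R : Set G) ≤ centralizer (P : Set G) := by
    intro hfix
    refine hLP (le_centralizer_iff.1 (hpair.le_centralizer_of_two_fixed_le hL'p hYQ
      ((le_sup_left.trans le_sup_left).trans hBL) hRL hPL
      (coprime_of_isPGroup_ne hℓ hp.1 (fun h => hp.2.1 (h ▸ hℓσ)) hPp hL'p) d.QP hRP hfix ?_))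
    refine le_trans (le_inf (inf_le_left.trans (map_subtype_le _)) (inf_le_right.trans ?_)) hA0
    exact (centralizer_le_normalizer _).trans hNY
  -- `T' = [C(R) ∩ M_σ, P]` has an `ℓ`-part
  have hr1 := d.tau_one_r F hG hqH heq
  have hPR : P ≤ centralizer (R : Set G) := le_centralizer_iff.1 hRP
  set K' := Cfsg.sigmaCore M ⊓ centralizer (R : Set G)
  have hPK : P ≤ normalizer (K' : Set G) :=
    (le_inf (hPM.trans (le_normalizer_sigmaCore M))
      ((hPR.trans (centralizer_le_normalizer _)).trans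
        (normalizer_le_normalizer_centralizer_subgroup R))).trans
      Subgroup.inf_normalizer_le_normalizer_inf
  have hcop' : (Nat.card P).Coprime (Nat.card K') := by
    rw [hP]
    exact hp.1.coprime_iff_not_dvd.2 fun h =>
      hp.2.1 (isPiSubgroup_mono inf_le_left (isPiSubgroup_sigmaCore M) p hp.1 h)
  set T' := ⁅K', P⁆
  have hT'K : T' ≤ K' := CfsgLib.Coprime.commutator_le_of_le_normalizer hPK
  have hℓT : ℓ ∣ Nat.card T' := by
    have hle : ⁅L' ⊓ centralizer (R : Set G), P⁆ ≤ L' :=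
      (commutator_mono inf_le_left le_rfl).trans
        (CfsgLib.Coprime.commutator_le_of_le_normalizer hPL)
    have hne : ⁅L' ⊓ centralizer (R : Set G), P⁆ ≠ ⊥ := fun h => hfixR
      (commutator_eq_bot_iff_le_centralizer.1 h)
    obtain ⟨Z', hZ', hZ'c⟩ := exists_card_prime_le (hL'p.to_le hle) hne
    refine hZ'c ▸ card_dvd_of_le (hZ'.trans (commutator_mono ?_ le_rfl))
    exact inf_le_inf_right _ ((map_subtype_le _).trans (F.bg10.alphaHall M hM).2.1)
  obtain ⟨H2, Q2, d2⟩ := exists_preData F hG hM hr1 rfl hRM hp.1 hP hPM hPR hp.2.1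
    (fun h => hrp h.symm) hT'K (normalizer_commutator_ge_right K' P)
    (CfsgLib.Coprime.commutator_commutator_eq hPK hcop') hℓ hℓT
  obtain ⟨-, -, -, -, hℓH, -⟩ := d2.main F hG
  exact not_alpha_of_sigma F hG d2.maxH hM (not_conj_symm d2.nonconj) hℓH hℓα

end CfsgLib.OddOrder.BG13
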