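import Cfsg.Agent.OddOrder.BG13.Assemble
import Cfsg.Agent.S1423
import Cfsg.Agent.S1424

/-!
# `BG12Facts` holds in every minimal simple group of odd order
-/

set_option autoImplicit false

namespace CfsgLib.OddOrder.BG13

universe u

theorem bg12Facts {G : Type u} [Group G] [Finite G] (hG : Cfsg.IsMinSimpleOddOrder G) :
    BG12Facts G :=
  bg12Facts_of hG (fun M hM p _ hp X hXM hX P h => (Cfsg.Agent.S1423.result hG M hM p hp X hXM hX P h).1.1)
    (fun M hM q _ hq X hXq hX1 hXM L hL hne hN S hXS =>
      Cfsg.Agent.S1424.result hG M hM q hq X hXq hX1 hXM L hL hne hN S hXS)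

end CfsgLib.OddOrder.BG13
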