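import Cfsg.Agent.OddOrder.BG13.Covering
import Cfsg.Agent.Solvable.Basic

/-!
# `σ(M)`-subgroups are conjugate into `M_σ` (BG 13, S1425)
-/

set_option autoImplicit false
set_option linter.style.haveILetI false
set_option linter.unusedSectionVars false

namespace CfsgLib.OddOrder.BG13

open Cfsg Subgroup
open CfsgLib.OddOrder.BG11
open CfsgLib.ConjFunctor (IsSylowIn exists_isSylowIn_ge)

variable {G : Type*} [Group G] [Finite G] {q : ℕ} {M : Subgroup G}
variable (F : BG12Facts G) (hG : Cfsg.IsMinSimpleOddOrder G)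
include F hG

theorem exists_conj_le_of_normalizes [Fact q.Prime] (hM : IsCoatom M) (hq : q ∈ Cfsg.sigma M)
    {Y X : Subgroup G} (hY : IsPiSubgroup (Cfsg.sigma M) Y) (hX : IsPGroup q X) (hX1 : X ≠ ⊥)
    (hXM : X ≤ M) (hYX : Y ≤ normalizer (X : Set G)) :
    ∃ g : G, Y.map (MulAut.conj g).toMonoidHom ≤ Cfsg.sigmaCore M := by
  have key : Y ≤ M → ∃ g : G, Y.map (MulAut.conj g).toMonoidHom ≤ Cfsg.sigmaCore M := fun h =>
    ⟨1, by rw [map_conj_one]; exact le_sigmaCore F.bg10 hM h hY⟩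
  by_cases hcyc : IsCyclic X
  swap
  · exact key (hYX.trans (F.sigmaNoncyclic M hM q X hq hX hXM hcyc))
  obtain ⟨X₁, hX₁X, hX₁⟩ := exists_card_prime_le hX hX1
  have hN := hYX.trans (normalizer_le_normalizer_of_isCyclic hcyc hX₁X)
  by_cases hNM : normalizer (X₁ : Set G) ≤ M
  · exact key (hN.trans hNM)
  have h1 : X₁ ≠ ⊥ := fun h => by
    rw [h, Subgroup.card_bot] at hX₁
    exact (Fact.out : q.Prime).ne_one hX₁.symm
  obtain ⟨H, hH, hNH⟩ := minSimple_exists_coatom hG (minSimple_normalizer_ne_top hG h1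
    (minSimple_ne_top_of_isPGroup hG (hX.to_le hX₁X)))
  obtain ⟨h, -, hh⟩ := cover_conj F hG hM hq hX₁ (hX₁X.trans hXM) hH (fun e => hNM (e ▸ hNH)) hNH
    (hN.trans hNH) fun r hr hd => Or.inl (hY r hr hd)
  exact ⟨h, le_sigmaCore F.bg10 hM (hh.trans inf_le_left) (isPiSubgroup_map _ hY)⟩

/-- BG 13 (S1425). -/
theorem exists_conj_le_sigmaCore (hM : IsCoatom M) {Y : Subgroup G} (hY1 : Y ≠ ⊥)
    (hY : IsPiSubgroup (Cfsg.sigma M) Y) :
    ∃ g : G, Y.map (MulAut.conj g).toMonoidHom ≤ Cfsg.sigmaCore M := by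
  have hYtop : Y ≠ ⊤ := by
    rintro rfl
    refine hM.1 (top_le_iff.1 ?_)
    have h : (Cfsg.sigmaCore M).index = 1 := by
      refine Nat.eq_one_iff_not_exists_prime_dvd.2 fun r hr hd => ?_
      exact (F.bg10.sigmaHall M hM).2.2 r hr
        (hY r hr (by rw [Subgroup.card_top]; exact hd.trans (index_dvd_card _))) hd
    exact (index_eq_one.1 h).ge.trans (sigmaCore_le M)
  haveI := minSimple_solvable hG hYtop
  haveI : Nontrivial Y := (Subgroup.nontrivial_iff_ne_bot Y).2 hY1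
  obtain ⟨N, hN, hN1, hmin⟩ := Solvable.exists_minimal_normal (G := Y)
  haveI := hN
  obtain ⟨q, hqp, hNq⟩ := Solvable.exists_isPGroup_of_minimal_normal hN1 hmin
  haveI := Fact.mk hqp
  set X := N.map Y.subtype
  have hX : IsPGroup q X := hNq.map _
  have hX1 : X ≠ ⊥ := fun h => hN1 ((map_eq_bot_iff_of_injective _ Y.subtype_injective).1 h)
  have hYX : Y ≤ normalizer (X : Set G) := by
    refine (normal_subgroupOf_iff_le_normalizer (map_subtype_le N)).1 ?_
    rw [show X.subgroupOf Y = N from comap_map_eq_self_of_injective Y.subtype_injective _]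
    exact hN
  obtain ⟨Z, hZX, hZ⟩ := exists_card_prime_le hX hX1
  have hq : q ∈ Cfsg.sigma M :=
    hY q hqp (hZ ▸ card_dvd_of_le (hZX.trans (map_subtype_le N)))
  obtain ⟨T, hT⟩ := exists_isSylowIn (p := q) M
  obtain ⟨a, -, ha⟩ := (isSylowIn_top_of_sigma F.bg10 hM hq hT).exists_cj_le le_top hX
  obtain ⟨g, hg⟩ := exists_conj_le_of_normalizes F hG hM hq
    (Y := Y.map (MulAut.conj a).toMonoidHom) (X := X.map (MulAut.conj a).toMonoidHom)
    (isPiSubgroup_map _ hY) (hX.map _)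
    (fun h => hX1 ((map_eq_bot_iff_of_injective _ (MulAut.conj a).injective).1 h))
    (ha.trans hT.le) ((map_mono hYX).trans (le_normalizer_map _))
  exact ⟨g * a, by rwa [map_conj_map_conj] at hg⟩

end CfsgLib.OddOrder.BG13
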