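import Cfsg.Agent.OddOrder.BG13.Basic
import Cfsg.Agent.OddOrder.BG6Hall

/-!
# The action of a complement on `M_σ` and the intersections of `M_σ` with conjugates (S1426)
-/

set_option autoImplicit false
set_option linter.style.haveILetI false
set_option linter.unusedSectionVars false

namespace CfsgLib.OddOrder.BG13

open Cfsg Subgroup
open CfsgLib.OddOrder.BG11
open scoped commutatorElement

variable {G : Type*} [Group G] [Finite G] {q : ℕ} {M : Subgroup G}
variable (F : BG12Facts G) (hG : Cfsg.IsMinSimpleOddOrder G)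
include F hG

/-- BG 13 (S1426), the action of a complement on `M_σ`. -/
theorem sigmaCore_complIn_action (hM : IsCoatom M) {E : Subgroup G}
    (hE : Cfsg.IsComplIn E (Cfsg.sigmaCore M) M) :
    Cfsg.sigmaCore M ⊓ centralizer (E : Set G) ≤ ⁅Cfsg.sigmaCore M, Cfsg.sigmaCore M⁆ ∧
      ⁅Cfsg.sigmaCore M, E⁆ = Cfsg.sigmaCore M := by
  haveI := minSimple_coatom_solvable hG hM
  have hS := sigmaCore_le M
  haveI hn : ((Cfsg.sigmaCore M).subgroupOf M).Normal :=
    (normal_subgroupOf_iff_le_normalizer hS).2 (le_normalizer_sigmaCore M)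
  have hc : ((Cfsg.sigmaCore M).subgroupOf M).IsComplement' (E.subgroupOf M) := by
    refine (isComplement'_of_disjoint_and_mul_eq_univ ?_ ?_).symm
    · rw [disjoint_iff, eq_bot_iff]
      intro x hx
      have h : (x : G) ∈ E ⊓ Cfsg.sigmaCore M := hx
      rw [hE.2.2.1, mem_bot] at h
      exact mem_bot.2 (Subtype.ext h)
    · refine Set.eq_univ_of_forall fun x => ?_
      obtain ⟨e, he, y, hy, hxe⟩ := hE.2.2.2 x x.2
      exact ⟨⟨e, hE.1 he⟩, he, ⟨y, hS hy⟩, hy, Subtype.ext hxe.symm⟩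
  have hH' : (Cfsg.sigmaCore M).subgroupOf M ≤ _root_.commutator M := by
    intro x hx
    have h1 : (x : G) ∈ (_root_.commutator M).map M.subtype := by
      rw [map_subtype_commutator]
      exact sigmaCore_le_derived F.bg10 hG hM hx
    obtain ⟨y, hy, e⟩ := h1
    exact M.subtype_injective e ▸ hy
  have heq : Cfsg.sigmaCore M = ⁅Cfsg.sigmaCore M, E⁆ := by
    have h := congrArg (Subgroup.map M.subtype) (eq_commutator_complement hc hH')
    rwa [map_commutator, subgroupOf_map_subtype, subgroupOf_map_subtype, inf_eq_left.2 hS,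
      inf_eq_left.2 hE.1] at h
  refine ⟨inf_centralizer_le_commutator_of_eq (hE.1.trans (le_normalizer_sigmaCore M))
    (Nat.coprime_of_dvd fun r hr hd1 hd2 => ?_) heq, heq.symm⟩
  refine (F.bg10.sigmaHall M hM).1.2.2 r hr (isPiSubgroup_sigmaCore M r hr hd1) ?_
  rw [Subgroup.relIndex, hc.symm.index_eq_card,
    Nat.card_congr (subgroupOfEquivOfLe hE.1).toEquiv]
  exact hd2

/-- BG 13 (S1426), the intersections of `M_σ` with the other conjugates of `M`. -/
theorem sigmaCore_inf_conj (hM : IsCoatom M) {g : G} (hg : g ∉ M) :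
    IsCyclic ↥(Cfsg.sigmaCore M ⊓ M.map (MulAut.conj g).toMonoidHom) ∧
      (∀ p : ℕ, p.Prime → p ∣ Nat.card ↥(Cfsg.sigmaCore M ⊓ M.map (MulAut.conj g).toMonoidHom) →
        p ∉ Cfsg.beta M) ∧
      Cfsg.sigmaCore M ⊓ M.map (MulAut.conj g).toMonoidHom ⊓
        ⁅Cfsg.sigmaCore M, Cfsg.sigmaCore M⁆ = ⊥ := by
  set X := Cfsg.sigmaCore M ⊓ M.map (MulAut.conj g).toMonoidHom
  -- no nontrivial `q`-subgroup of `X` has its centralizer in `M`
  have hfus : ∀ (q : ℕ) [Fact q.Prime] (Z : Subgroup G), IsPGroup q Z → Z ≠ ⊥ → Z ≤ X →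
      ¬ centralizer (Z : Set G) ≤ M ∧ q ∈ Cfsg.sigma M := by
    intro q _ Z hZ hZ1 hZX
    obtain ⟨Y, hYZ, hY⟩ := exists_card_prime_le hZ hZ1
    have hq : q ∈ Cfsg.sigma M := isPiSubgroup_sigmaCore M q Fact.out
      (hY ▸ card_dvd_of_le (hYZ.trans (hZX.trans inf_le_left)))
    refine ⟨fun hC => hg ?_, hq⟩
    have h1 : Z.map (MulAut.conj g⁻¹).toMonoidHom ≤ M := by
      have h2 := map_mono (f := (MulAut.conj g⁻¹).toMonoidHom) (hZX.trans inf_le_right)
      rwa [map_conj_map_conj, inv_mul_cancel, map_conj_one] at h2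
    obtain ⟨m, hm, c, hc, he⟩ :=
      F.bg10.fusion M hM q hq Z hZ hZ1 (hZX.trans (inf_le_left.trans (sigmaCore_le M))) g⁻¹ h1
    exact inv_mem_iff.1 (he ▸ mul_mem hm (hC hc) : g⁻¹ ∈ M)
  have hprime : ∀ (q : ℕ) [Fact q.Prime] (Y : Subgroup G), Nat.card Y = q → Y ≤ X →
      q ∉ Cfsg.beta M ∧ ¬ Y ≤ ⁅Cfsg.sigmaCore M, Cfsg.sigmaCore M⁆ := by
    intro q _ Y hY hYX
    have hY1 : Y ≠ ⊥ := fun h => by
      rw [h, Subgroup.card_bot] at hY
      exact (Fact.out : q.Prime).ne_one hY.symm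
    obtain ⟨hC, hq⟩ := hfus q Y (IsPGroup.of_card (n := 1) (by rw [hY, pow_one])) hY1 hYX
    have hYM : Y ≤ M := hYX.trans (inf_le_left.trans (sigmaCore_le M))
    exact ⟨fun h => hC (F.sigmaOrderP M hM q hq Y hYM hY (Or.inl h)),
      fun h => hC (F.sigmaOrderP M hM q hq Y hYM hY (Or.inr h))⟩
  have hex : ∀ (q : ℕ) [Fact q.Prime] (W : Subgroup G), q ∣ Nat.card W →
      ∃ Y ≤ W, Nat.card Y = q := by
    intro q _ W hd
    obtain ⟨x, hx⟩ := exists_prime_orderOf_dvd_card' (G := W) q hd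
    exact ⟨(zpowers x).map W.subtype, map_subtype_le _, by
      rw [card_map_of_injective W.subtype_injective, Nat.card_zpowers, hx]⟩
  have h3 : X ⊓ ⁅Cfsg.sigmaCore M, Cfsg.sigmaCore M⁆ = ⊥ := by
    by_contra hne
    obtain ⟨q, hq, hd⟩ := Nat.exists_prime_and_dvd fun h => hne (Subgroup.card_eq_one.1 h)
    haveI := Fact.mk hq
    obtain ⟨Y, hYW, hY⟩ := hex q _ hd
    exact (hprime q Y hY (hYW.trans inf_le_left)).2 (hYW.trans inf_le_right)
  refine ⟨?_, fun p hp hd => ?_, h3⟩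
  · have hcomm : IsMulCommutative X := by
      refine ⟨⟨fun a b => Subtype.ext (commutatorElement_eq_one_iff_mul_comm.1 ?_)⟩⟩
      have h : ⁅(a : G), (b : G)⁆ ∈ X ⊓ ⁅Cfsg.sigmaCore M, Cfsg.sigmaCore M⁆ :=
        ⟨commutator_le_self X (commutator_mem_commutator a.2 b.2), commutator_mem_commutator (mem_inf.1 a.2).1 (mem_inf.1 b.2).1⟩
      rw [h3, mem_bot] at h
      exact h
    haveI := hcomm
    haveI : Group.IsNilpotent X :=
      @CommGroup.isNilpotent X { (inferInstance : Group X) with mul_comm := hcomm.is_comm.comm }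
    haveI : IsZGroup X := (isZGroup_iff X).2 fun r hr Q => by
      haveI := Fact.mk hr
      by_contra hQ
      set Z := (Q : Subgroup X).map X.subtype
      have hZc : ¬ IsCyclic Z := fun h => hQ
        (((Q : Subgroup X).equivMapOfInjective _ X.subtype_injective).isCyclic.2 h)
      have hZ1 : Z ≠ ⊥ := fun h => hZc (h ▸ inferInstance)
      obtain ⟨hC, hrs⟩ := hfus r Z (Q.2.map _) hZ1 (map_subtype_le _)
      exact hC ((centralizer_le_normalizer _).trans (F.sigmaNoncyclic M hM r Z hrs (Q.2.map _)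
        ((map_subtype_le _).trans (inf_le_left.trans (sigmaCore_le M))) hZc))
    infer_instance
  · haveI := Fact.mk hp
    obtain ⟨Y, hYX, hY⟩ := hex p _ hd
    exact (hprime p Y hY hYX).1

end CfsgLib.OddOrder.BG13
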