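import Cfsg.Agent.OddOrder.BG11.Facts
import Cfsg.Agent.OddOrder.BG13.Basic
import Cfsg.Agent.OddOrder.BG12.Compl
import Cfsg.Agent.S1406
import Cfsg.Agent.S1409
import Cfsg.Agent.S1414
import Cfsg.Agent.S1417
import Cfsg.Agent.S1418
import Cfsg.Agent.S1420

/-!
# `BG12Facts` from the landed statements, with S1423 and S1424 as hypotheses
-/

set_option autoImplicit false
set_option linter.style.haveILetI false

namespace CfsgLib.OddOrder.BG13

open Cfsg Subgroup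
open CfsgLib.OddOrder.BG11
open CfsgLib.ConjFunctor (IsSylowIn exists_isSylowIn_ge)

universe u

/-- `BG12Facts G` from S1423 (centralizer part) and S1424. -/
theorem bg12Facts_of {G : Type u} [Group G] [Finite G] (hG : Cfsg.IsMinSimpleOddOrder G)
    (h1423 : ∀ M : Subgroup G, IsCoatom M → ∀ (p : ℕ) [Fact p.Prime], p ∈ Cfsg.sigma M →
      ∀ X : Subgroup G, X ≤ M → Nat.card X = p → ∀ _ : Sylow p ↥(Cfsg.sigmaCore M),
        (p ∈ Cfsg.beta M ∨ X ≤ ⁅Cfsg.sigmaCore M, Cfsg.sigmaCore M⁆) →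
          centralizer (X : Set G) ≤ M)
    (h1424 : ∀ M : Subgroup G, IsCoatom M → ∀ (q : ℕ) [Fact q.Prime], q ∈ Cfsg.sigma M →
      ∀ X : Subgroup G, IsPGroup q X → X ≠ ⊥ → X ≤ M → ∀ L : Subgroup G, IsCoatom L → L ≠ M →
        normalizer (X : Set G) ≤ L → ∀ S : Sylow q ↥(M ⊓ L),
          X ≤ (S : Subgroup ↥(M ⊓ L)).map (M ⊓ L).subtype →
          (∀ g : G, L ≠ M.map (MulAut.conj g).toMonoidHom) ∧
            normalizer (((S : Subgroup ↥(M ⊓ L)).map (M ⊓ L).subtype : Subgroup G) : Set G) ≤ M ∧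
            ¬ q ∣ ((S : Subgroup ↥(M ⊓ L)).map (M ⊓ L).subtype).relIndex L) :
    BG12Facts G where
  bg10 := bg10Facts hG
  betaCore M hM := (Cfsg.Agent.S1414.result hG M hM).1
  alphaUnique M hM X hXM hXa hr := Cfsg.Agent.S1406.result hG M hM X hXM hXa hr
  orderP M hM p _ hp X hX hN :=
    let h := Cfsg.Agent.S1409.result hG M hM p hp X hX hN
    ⟨h.1.2, h.2.2⟩
  tauTwo M hM p _ hp A hAM hA hAc :=
    let h := Cfsg.Agent.S1417.result hG M hM p hp A ⟨hAM, hA, hAc⟩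
    ⟨h.1, h.2.2.2.2.1⟩
  tauTwoCompl M hM E hE p _ hp A hAE hA hAc :=
    let h := Cfsg.Agent.S1418.result hG M hM E hE p hp A ⟨hAE, hA, hAc⟩
    ⟨h.1.1, h.2.1.2.1⟩
  sigmaNoncyclic M hM p P hp hP hPM hnc := by
    obtain ⟨E, -, hE⟩ := BG12.exists_compl_ge (bg10Facts hG) hG hM (bot_le : (⊥ : Subgroup G) ≤ M)
      (by intro r hr hd; rw [Subgroup.card_bot] at hd; exact absurd hd hr.not_dvd_one)
    exact (Cfsg.Agent.S1420.result hG M hM E hE).2.2.1 p P hp hP hPM hnc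
  sigmaOrderP M hM p _ hp X hXM hX h := h1423 M hM p hp X hXM hX default h
  otherMaximal M hM q _ hq X hXq hX1 hXM L hL hne hN := by
    have hXL : X ≤ L := Subgroup.le_normalizer.trans hN
    obtain ⟨S₀, hXS₀, hS₀⟩ := exists_isSylowIn_ge (le_inf hXM hXL) hXq
    have conv : ∀ S : Subgroup G, IsSylowIn q S (M ⊓ L) →
        ∃ P : Sylow q ↥(M ⊓ L), (P : Subgroup ↥(M ⊓ L)).map (M ⊓ L).subtype = S := fun S hS =>
      ⟨(hS.isPGroup.comap_subtype).toSylow
        (show ¬ q ∣ (S.subgroupOf (M ⊓ L)).index from hS.not_dvd), by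
        change (S.subgroupOf (M ⊓ L)).map _ = S
        rw [subgroupOf_map_subtype, inf_eq_left.2 hS.le]⟩
    refine ⟨?_, fun S hS hXS => ?_⟩
    · obtain ⟨P, hP⟩ := conv S₀ hS₀
      exact (h1424 M hM q hq X hXq hX1 hXM L hL hne hN P (hP.symm ▸ hXS₀)).1
    · obtain ⟨P, hP⟩ := conv S hS
      have h := h1424 M hM q hq X hXq hX1 hXM L hL hne hN P (hP.symm ▸ hXS)
      rw [hP] at h
      exact ⟨h.2.1, hS.le.trans inf_le_right, hS.isPGroup, h.2.2⟩

end CfsgLib.OddOrder.BG13
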