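import Cfsg.Agent.OddOrder.BG13.Basic

/-!
# A maximal subgroup over the normalizer of a subgroup of order `q ∈ σ(M)`

If `Y ≤ M` has order `q ∈ σ(M)` and the maximal subgroup `H ≠ M` contains `N(Y)`, then `H` is
covered by `M ∩ H` and a normal subgroup whose primes lie in `σ(H)` and outside `σ(M)` (`cover`,
`cover_core`).
-/

set_option autoImplicit false
set_option linter.style.haveILetI false
set_option linter.unusedSectionVars false

namespace CfsgLib.OddOrder.BG13

open Cfsg Subgroup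
open CfsgLib.OddOrder.BG11
open CfsgLib.ConjFunctor (IsSylowIn exists_isSylowIn_ge)

variable {G : Type*} [Group G] [Finite G] {p q : ℕ} {M H : Subgroup G}

/-- The Frattini argument in a subgroup `H`, for a core with nilpotent image of `H'`. -/
theorem eq_sup_normalizer [Fact q.Prime] {π : Set ℕ} {S : Subgroup G} (hS : IsSylowIn q S H)
    (hSd : S ≤ ⁅H, H⁆)
    (hnil : Group.IsNilpotent
      ↥((_root_.commutator ↥H).map (QuotientGroup.mk' (Cfsg.piCore π ↥H)))) :
    H = Cfsg.piCoreOf π H ⊔ (H ⊓ normalizer (S : Set G)) := by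
  set P : Sylow q H := (hS.isPGroup.comap_subtype).toSylow
    (show ¬ q ∣ (S.subgroupOf H).index from hS.not_dvd)
  have hP : (P : Subgroup H).map H.subtype = S := by
    change (S.subgroupOf H).map _ = S
    rw [subgroupOf_map_subtype, inf_eq_left.2 hS.le]
  have hPd : (P : Subgroup H) ≤ _root_.commutator H := by
    intro x hx
    have h1 : (x : G) ∈ (_root_.commutator H).map H.subtype := by
      rw [map_subtype_commutator]
      exact hSd hx
    obtain ⟨y, hy, e⟩ := h1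
    exact H.subtype_injective e ▸ hy
  have h := congrArg (Subgroup.map H.subtype)
    (sup_normalizer_eq_top_of_nilpotent_image (Cfsg.piCore π ↥H) P hPd hnil)
  rw [Subgroup.map_sup, ← MonoidHom.range_eq_map, range_subtype] at h
  refine le_antisymm ?_ (sup_le (piCoreOf_le π H) inf_le_left)
  conv_lhs => rw [← h]
  refine sup_le_sup le_rfl (le_inf (map_subtype_le _) ?_)
  exact (le_normalizer_map _).trans (hP ▸ le_rfl)

section

variable (F : BG12Facts G)
include F

/-- The image of `H'` in `H/O_β(H)` is nilpotent. -/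
theorem isNilpotent_commutator_image_beta (hH : IsCoatom H) :
    Group.IsNilpotent
      ↥((_root_.commutator ↥H).map (QuotientGroup.mk' (Cfsg.piCore (Cfsg.beta H) ↥H))) := by
  obtain ⟨⟨W, hW, hWn⟩, -⟩ := F.bg10.betaHall H hH
  have hB := F.betaCore H hH
  set N := Cfsg.piCore (Cfsg.beta H) ↥H
  set f := QuotientGroup.mk' N
  set D := _root_.commutator ↥H
  have hD : D.map H.subtype = ⁅H, H⁆ := map_subtype_commutator H
  have hWH : W ≤ H := hW.1.trans (commutator_le_self H)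
  set W₀ := W.subgroupOf H
  have hW₀ : W₀.map H.subtype = W := by rw [subgroupOf_map_subtype, inf_eq_left.2 hWH]
  have hWD : W₀ ≤ D := (map_le_map_iff_of_injective H.subtype_injective).1 (by
    rw [hW₀, hD]; exact hW.1)
  have hidx : ∀ r : ℕ, r.Prime → r ∣ N.index → r ∉ Cfsg.beta H := by
    intro r hr hd hb
    refine hB.2.2 r hr hb ?_
    rwa [Subgroup.relIndex, show (Cfsg.piCoreOf (Cfsg.beta H) H).subgroupOf H = N from
      comap_map_eq_self_of_injective H.subtype_injective _]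
  have hpi : IsPiSubgroup (Cfsg.beta H) N := isPiSubgroup_piCore _ _
  -- `|D f|` divides `|W|`
  have h1 : Nat.card (D.map f) ∣ Nat.card W₀ := by
    have h2 : Nat.card (D.map f) ∣ Nat.card W₀ * W₀.relIndex D := by
      rw [PLocal.card_mul_relIndex hWD]
      exact card_map_dvd D f
    refine Nat.Coprime.dvd_of_dvd_mul_right (Nat.coprime_of_dvd fun r hr hr1 hr2 => ?_) h2
    have hb : r ∉ Cfsg.beta H := hidx r hr (hr1.trans (card_subgroup_dvd_card _))
    refine hW.2.2 r hr ⟨hr, hb⟩ ?_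
    rwa [← hD, ← hW₀, relIndex_map_map_of_injective _ _ H.subtype_injective]
  have hinj : Function.Injective (f.comp W₀.subtype) := by
    rw [injective_iff_map_eq_one]
    intro x hx
    have hxN : (x : H) ∈ N := (QuotientGroup.eq_one_iff _).1 hx
    have h3 : W₀ ⊓ N = ⊥ := inf_eq_bot_of_isPiSubgroup
      (π := {r | r.Prime ∧ r ∉ Cfsg.beta H}) (isPiSubgroup_subgroupOf hW.2.1) hpi
      (Set.disjoint_left.2 fun r hr hr' => hr.2 hr')
    exact Subtype.ext (mem_bot.1 (h3 ▸ mem_inf.2 ⟨x.2, hxN⟩))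
  have hrange : (f.comp W₀.subtype).range = W₀.map f := by
    rw [MonoidHom.range_comp, range_subtype]
  have hcard : Nat.card (W₀.map f) = Nat.card W₀ := by
    rw [← hrange]
    exact (Nat.card_congr (MonoidHom.ofInjective hinj).toEquiv).symm
  have heq : W₀.map f = D.map f :=
    eq_of_le_of_card_ge (map_mono hWD) (by rw [hcard]; exact Nat.le_of_dvd Nat.card_pos h1)
  rw [← heq]
  haveI : Group.IsNilpotent W₀ :=
    (Group.isNilpotent_congr (subgroupOfEquivOfLe hWH)).2 hWn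
  exact Group.nilpotent_of_surjective (f.subgroupMap W₀) (f.subgroupMap_surjective W₀)

end

variable (F : BG12Facts G) (hG : Cfsg.IsMinSimpleOddOrder G)
include F hG

/-- The covering lemma. -/
theorem cover [Fact q.Prime] (hM : IsCoatom M) (hq : q ∈ Cfsg.sigma M) {Y : Subgroup G}
    (hY : Nat.card Y = q) (hYM : Y ≤ M) (hH : IsCoatom H) (hne : H ≠ M)
    (hNY : normalizer (Y : Set G) ≤ H) :
    (∀ g : G, H ≠ M.map (MulAut.conj g).toMonoidHom) ∧
      ((q ∈ Cfsg.sigma H ∧ H = Cfsg.piCoreOf (Cfsg.beta H) H ⊔ (M ⊓ H) ∧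
          ∃ S : Subgroup G, IsSylowIn q S ⊤ ∧ S ≤ M ⊓ H ∧ normalizer (S : Set G) ≤ M) ∨
        (q ∈ Cfsg.tau2 H ∧ Group.IsNilpotent (Cfsg.sigmaCore H) ∧
          Cfsg.sigmaCore H ⊓ M = ⊥ ∧ H = Cfsg.sigmaCore H ⊔ (M ⊓ H) ∧
          ∃ A : Subgroup G, A ≤ M ⊓ H ∧ Cfsg.IsElementaryAbelian q A ∧ Nat.card A = q ^ 2)) := by
  have hYq : IsPGroup q Y := IsPGroup.of_card (n := 1) (by rw [hY, pow_one])
  have hY1 : Y ≠ ⊥ := fun h => by
    rw [h, Subgroup.card_bot] at hY
    exact (Fact.out : q.Prime).ne_one hY.symm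
  have hYH : Y ≤ H := le_normalizer.trans hNY
  obtain ⟨hnc, hS⟩ := F.otherMaximal M hM q hq Y hYq hY1 hYM H hH hne hNY
  refine ⟨hnc, ?_⟩
  obtain ⟨S, hYS, hSMH⟩ := exists_isSylowIn_ge (le_inf hYM hYH) hYq
  obtain ⟨hNS, hSH⟩ := hS S hSMH hYS
  by_cases hqH : q ∈ Cfsg.sigma H
  · refine Or.inl ⟨hqH, ?_, S, isSylowIn_top_of_sigma F.bg10 hH hqH hSH, hSMH.le, hNS⟩
    refine le_antisymm ?_ (sup_le (piCoreOf_le _ H) inf_le_right)
    conv_lhs => rw [eq_sup_normalizer hSH
      ((pGroup_le_sigmaCore F.bg10 hH hqH hSH.le hSH.isPGroup).trans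
        (sigmaCore_le_derived F.bg10 hG hH)) (isNilpotent_commutator_image_beta F hH)]
    exact sup_le_sup le_rfl (le_inf (inf_le_right.trans hNS) inf_le_left)
  · obtain ⟨hr1, A, hA, hAc, hYA⟩ := F.orderP H hH q hqH Y hY hNY
    have hAH : A ≤ H := by
      haveI := hA.1
      exact ((le_centralizer_self hA.1).trans (centralizer_le (show (Y : Set G) ⊆ A from hYA))).trans
        ((centralizer_le_normalizer _).trans hNY)
    have hτ : q ∈ Cfsg.tau2 H :=
      ⟨Fact.out, hqH, pRankLE_two_of_not_sigma F.bg10 hH hqH, hr1⟩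
    obtain ⟨a, -, haS⟩ := hSH.exists_cj_le hAH (isPGroup_of_isElementaryAbelian hA)
    set A' := A.map (MulAut.conj a).toMonoidHom
    have hA' : Cfsg.IsElementaryAbelian q A' :=
      isElementaryAbelian_map (MulAut.conj a).toMonoidHom hA
    have hA'c : Nat.card A' = q ^ 2 := by rw [card_map_conj, hAc]
    have hA'MH : A' ≤ M ⊓ H := haS.trans hSMH.le
    have hNA : normalizer (A' : Set G) ≤ M :=
      F.sigmaNoncyclic M hM q A' hq (isPGroup_of_isElementaryAbelian hA')
        (hA'MH.trans inf_le_left) (not_isCyclic_of_card_sq hA' hA'c)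
    obtain ⟨E, hA'E, hE⟩ := exists_complIn_ge F hG hH (hA'MH.trans inf_le_right) fun r hr hd => by
      rw [hA'c] at hd
      exact ((Nat.prime_dvd_prime_iff_eq hr Fact.out).1 (hr.dvd_of_dvd_pow hd)).symm ▸ hqH
    obtain ⟨hnil, hinf⟩ := F.tauTwo H hH q hτ A' (hA'MH.trans inf_le_right) hA' hA'c
    refine Or.inr ⟨hτ, hnil, hinf M hM hne.symm (hA'MH.trans inf_le_left), ?_, A', hA'MH, hA',
      hA'c⟩
    have hEM : E ≤ M ⊓ H := by
      rw [← (F.tauTwoCompl H hH E hE q hτ A' hA'E hA' hA'c).2]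
      exact le_inf (inf_le_right.trans hNA) inf_le_left
    refine le_antisymm (fun m hm => ?_) (sup_le (sigmaCore_le H) inf_le_right)
    obtain ⟨e, he, y, hy, rfl⟩ := hE.2.2.2 m hm
    exact mul_mem (mem_sup_right (hEM he)) (mem_sup_left hy)

/-- The covering lemma, with the common content of the two cases. -/
theorem cover_core [Fact q.Prime] (hM : IsCoatom M) (hq : q ∈ Cfsg.sigma M) {Y : Subgroup G}
    (hY : Nat.card Y = q) (hYM : Y ≤ M) (hH : IsCoatom H) (hne : H ≠ M)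
    (hNY : normalizer (Y : Set G) ≤ H) :
    ∃ K : Subgroup G, H ≤ normalizer (K : Set G) ∧ H = K ⊔ (M ⊓ H) ∧
      IsPiSubgroup {r | r ∈ Cfsg.sigma H ∧ r ∉ Cfsg.sigma M} K := by
  obtain ⟨hnc, ⟨-, heq, -⟩ | ⟨-, hnil, -, heq, -⟩⟩ := cover F hG hM hq hY hYM hH hne hNY
  · refine ⟨_, le_normalizer_betaCore H, heq, fun r hr hd => ?_⟩
    haveI := Fact.mk hr
    have h := isPiSubgroup_piCoreOf _ _ r hr hd
    exact ⟨alpha_subset_sigma F.bg10 hH h.1, fun hs => not_alpha_of_sigma F hG hM hH hnc hs h.1⟩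
  · refine ⟨_, le_normalizer_sigmaCore H, heq, fun r hr hd => ?_⟩
    have h := isPiSubgroup_sigmaCore H r hr hd
    exact ⟨h, fun hs => (disjoint_sigma_of_nilpotent F hG hM hH hnc hnil).le_bot ⟨hs, h⟩⟩

/-- Subgroups of `H` whose primes lie in `σ(M)` are conjugate in `H` into `M ∩ H`. -/
theorem cover_conj [Fact q.Prime] (hM : IsCoatom M) (hq : q ∈ Cfsg.sigma M) {Y : Subgroup G}
    (hY : Nat.card Y = q) (hYM : Y ≤ M) (hH : IsCoatom H) (hne : H ≠ M)
    (hNY : normalizer (Y : Set G) ≤ H) {U : Subgroup G} (hUH : U ≤ H)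
    (hU : ∀ r : ℕ, r.Prime → r ∣ Nat.card U → r ∈ Cfsg.sigma M ∨ r ∉ Cfsg.sigma H) :
    ∃ h ∈ H, U.map (MulAut.conj h).toMonoidHom ≤ M ⊓ H := by
  obtain ⟨K, hKn, heq, hK⟩ := cover_core F hG hM hq hY hYM hH hne hNY
  haveI := minSimple_coatom_solvable hG hH
  refine exists_conj_le_of_relIndex (π := {r | r ∈ Cfsg.sigma M ∨ r ∉ Cfsg.sigma H})
    inf_le_right hUH hU fun r hr hd hr' => ?_
  obtain ⟨h1, h2⟩ := hK r hr (hd.trans (relIndex_dvd_card_of_eq_sup hKn heq))
  exact hr'.elim h2 fun h => h h1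

end CfsgLib.OddOrder.BG13
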