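import Cfsg.Agent.OddOrder.BG13.PreSigma
import Cfsg.Agent.Coprime.Action

/-!
# The configuration of BG 13 (S1428): `q ∈ σ(H)` and `p ∈ α(H)`
-/

set_option autoImplicit false
set_option linter.style.haveILetI false
set_option linter.unusedSectionVars false

namespace CfsgLib.OddOrder.BG13

open Cfsg Subgroup
open CfsgLib.OddOrder.BG11
open CfsgLib.ConjFunctor (IsSylowIn exists_isSylowIn_ge)

variable {G : Type*} [Group G] [Finite G] {p q r : ℕ} {M H P R Q : Subgroup G}
variable (F : BG12Facts G) (hG : Cfsg.IsMinSimpleOddOrder G)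
include F hG

theorem PreData.rNotSigmaH (d : PreData p r q M H P R Q) : r ∉ Cfsg.sigma H := by
  intro hr
  haveI := Fact.mk d.primeR
  haveI := Fact.mk d.primeQ
  have hR : R ≤ ⁅H, H⁆ :=
    (pGroup_le_sigmaCore F.bg10 d.maxH hr d.RH (isPGroup_of_card_prime d.cardR)).trans
      (sigmaCore_le_derived F.bg10 hG d.maxH)
  have h1 := commutator_le_alphaCore F hG d.maxH d.QH hR
    (coprime_of_isPGroup_ne d.primeQ d.primeR d.q_ne_r.symm
      (isPGroup_of_card_prime d.cardR) d.isPGroup).symm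
  rw [d.eq] at h1
  have h2 := inf_alphaCore_eq_bot F hG d.maxM d.maxH d.nonconj (T := Q)
    (isPiSubgroup_of_isPGroup d.isPGroup d.sigmaQ)
  exact d.ne_bot (le_bot_iff.1 (h2 ▸ le_inf le_rfl h1))

theorem PreData.p_mem_alpha (d : PreData p r q M H P R Q) : p ∈ Cfsg.alpha H := by
  haveI := Fact.mk d.tauOne.1
  haveI := Fact.mk d.primeQ
  by_contra hpa
  by_cases hps : p ∈ Cfsg.sigma H
  · exact d.sigma_minus_alpha_false F hG hps hpa
  · exact tau_two_false F hG d.maxM d.maxH d.nonconj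
      (tau_two_of_normalizer_le F hG d.maxH hps d.cardP d.normP) d.tauOne.2.2.2.2 d.sigmaQ
      d.isPGroup d.ne_bot (d.QM.trans (sigmaCore_le M)) d.QH d.cardP d.PM
      ((le_centralizer_iff.1 d.QP).trans (centralizer_le_normalizer _))

/-- The main consequence of the configuration. -/
theorem PreData.main (d : PreData p r q M H P R Q) :
    ∃ Y : Subgroup G, Y ≤ Q ∧ Nat.card Y = q ∧ normalizer (Y : Set G) ≤ H ∧
      q ∈ Cfsg.sigma H ∧ H = Cfsg.piCoreOf (Cfsg.beta H) H ⊔ (M ⊓ H) ∧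
      ∃ S : Subgroup G, IsSylowIn q S ⊤ ∧ S ≤ M ⊓ H ∧ normalizer (S : Set G) ≤ M := by
  haveI := Fact.mk d.tauOne.1
  haveI := Fact.mk d.primeQ
  haveI := Fact.mk d.primeR
  have hpa := d.p_mem_alpha F hG
  have hrs := d.rNotSigmaH F hG
  have hra : r ∉ Cfsg.alpha H := fun h => hrs (alpha_subset_sigma F.bg10 d.maxH h)
  have hqa : q ∉ Cfsg.alpha H :=
    not_alpha_of_sigma F hG d.maxM d.maxH d.nonconj d.sigmaQ
  have hps := alpha_subset_sigma F.bg10 d.maxH hpa
  have hQH : Q ≤ H := d.QH.trans (commutator_le_self H)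
  have hQM : Q ≤ M := d.QM.trans (sigmaCore_le M)
  have hPp := isPGroup_of_card_prime d.cardP
  set Hα := Cfsg.alphaCore H
  have hnα : H ≤ normalizer (Hα : Set G) := le_normalizer_piCoreOf (Cfsg.alpha H) H
  have hαH : Hα ≤ H := piCoreOf_le (Cfsg.alpha H) H
  have hHall := (F.bg10.alphaHall H d.maxH).1
  have hPα : P ≤ Hα := le_of_isPiHallOf_normal hHall hnα d.PH (isPiSubgroup_of_isPGroup hPp hpa)
  -- an invariant Sylow subgroup
  have hQRH : Q ⊔ R ≤ H := sup_le hQH d.RH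
  have hcop : (Nat.card ↥(Q ⊔ R)).Coprime (Nat.card Hα) := by
    refine Nat.coprime_of_dvd fun s hs hd1 hd2 => ?_
    have hsα := isPiSubgroup_piCoreOf (Cfsg.alpha H) H s hs hd2
    have h1 := hd1.trans (card_sup_dvd_mul d.norm)
    rcases hs.dvd_mul.1 h1 with h | h
    · obtain ⟨n, hn⟩ := IsPGroup.iff_card.1 d.isPGroup
      rw [hn] at h
      exact hqa ((Nat.prime_dvd_prime_iff_eq hs d.primeQ).1 (hs.dvd_of_dvd_pow h) ▸ hsα)
    · rw [d.cardR] at h
      exact hra ((Nat.prime_dvd_prime_iff_eq hs d.primeR).1 h ▸ hsα)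
  have hsolv : Group.IsSolvable Hα :=
    minSimple_solvable hG fun h => d.maxH.1 (top_le_iff.1 (h ▸ hαH))
  have hinv : Q ⊔ R ≤ normalizer (P : Set G) :=
    (sup_le d.QP d.RP).trans (centralizer_le_normalizer _)
  obtain ⟨W', hPW, hWn⟩ := CfsgLib.Coprime.exists_invariant_sylow_ge (hQRH.trans hnα) hcop
    (Or.inr hsolv) hPα hPp hinv
  set W := (W' : Subgroup Hα).map Hα.subtype
  have hWp : IsPGroup p W := W'.2.map _
  have hWα : W ≤ Hα := map_subtype_le _
  have hWH : IsSylowIn p W H := by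
    refine ⟨hWα.trans hαH, hWp, fun hd => ?_⟩
    rw [← relIndex_mul_relIndex W Hα H hWα hαH] at hd
    rcases (Fact.out : p.Prime).dvd_mul.1 hd with h | h
    · exact (isSylowIn_map_subtype W').not_dvd h
    · exact hHall.2.2 p Fact.out hpa h
  obtain ⟨A₀, hA₀H, hA₀, hA₀c⟩ := exists_elementary_of_not_pRankLE hpa.2
  obtain ⟨a, -, haW⟩ := hWH.exists_cj_le hA₀H (isPGroup_of_isElementaryAbelian hA₀)
  set A := A₀.map (MulAut.conj a).toMonoidHom
  have hA : Cfsg.IsElementaryAbelian p A := isElementaryAbelian_map (MulAut.conj a).toMonoidHom hA₀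
  have hAc : p ^ (2 + 1) ≤ Nat.card A := by rwa [card_map_conj]
  have hQW : Q ≤ normalizer (W : Set G) := le_sup_left.trans hWn
  have hRW : R ≤ normalizer (W : Set G) := le_sup_right.trans hWn
  have hodd : ∀ {s : ℕ} {S : Subgroup G}, s ∣ Nat.card S → s ≠ 2 :=
    fun h => minSimple_prime_ne_two_subgroup hG h
  have hp2 : p ≠ 2 := hodd d.tauOne.2.2.1
  -- `C_W(R)` is cyclic
  by_cases hcyc : IsCyclic ↥(W ⊓ centralizer (R : Set G))
  swap
  · exfalso
    obtain ⟨B, hBW, hB, hBc⟩ := exists_elementary_of_not_pRankLE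
      (not_pRankLE_one_of_not_isCyclic (hWp.to_le inf_le_left) hp2 hcyc)
    have hu := F.alphaUnique H d.maxH R d.RH (fun s hs hd => by
        rw [d.cardR] at hd
        exact (Nat.prime_dvd_prime_iff_eq hs d.primeR).1 hd ▸ hra)
      (not_rankLE_of_le (hBW.trans (inf_le_inf_right _ hWα)) hB hBc)
    have hR1 := ne_bot_of_card_prime d.cardR
    obtain ⟨L, hL, hNL⟩ := minSimple_exists_coatom hG (minSimple_normalizer_ne_top hG hR1
      (minSimple_ne_top_of_isPGroup hG (isPGroup_of_card_prime d.cardR)))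
    have hLH : H = L := (inUniqueMaximal_eq hu d.maxH inf_le_left hL
      (inf_le_right.trans ((centralizer_le_normalizer _).trans hNL))).symm
    have hNR : normalizer (R : Set G) ≤ H := hLH.symm ▸ hNL
    have hτ := tau_two_of_normalizer_le F hG d.maxH hrs d.cardR hNR
    by_cases hr1 : Cfsg.PRankLE r 1 M
    · exact tau_two_false F hG d.maxM d.maxH d.nonconj hτ hr1 d.sigmaQ d.isPGroup d.ne_bot
        hQM d.QH d.cardR d.RM d.norm
    · obtain ⟨A', hRA', hA'M, hA', hA'c⟩ := exists_elementary_sq_ge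
        (pRankLE_two_of_not_sigma F.bg10 d.maxM d.rNotSigma) hr1 d.RM d.cardR
      have hA'H : A' ≤ H := (le_centralizer_self hA'.1).trans
        ((centralizer_le (show (R : Set G) ⊆ A' from hRA')).trans
          ((centralizer_le_normalizer _).trans hNR))
      have h := (F.tauTwo H d.maxH r hτ A' hA'H hA' hA'c).2 M d.maxM
        (ne_of_not_conj d.nonconj).symm hA'M
      exact ne_bot_of_card_prime d.cardP (le_bot_iff.1
        (h ▸ le_inf (pGroup_le_sigmaCore F.bg10 d.maxH hps d.PH hPp) d.PM))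
  -- `Q` centralizes `W`
  have hPC : P ≤ W ⊓ centralizer (R : Set G) := le_inf hPW (le_centralizer_iff.1 d.RP)
  have hpair : PrimePair p q Q R :=
    { primeL := d.tauOne.1
      primeQ := d.primeQ
      isPGroup := d.isPGroup
      primeR := by rw [d.cardR]; exact d.primeR
      norm := d.norm
      comm_eq := d.eq
      q_ne_two := hodd (dvd_card_of_sigma d.sigmaQ)
      r_ne_two := hodd (dvd_refl (Nat.card R))
      q_ne := d.q_ne_p
      r_ne := by rw [d.cardR]; exact d.r_ne_p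
      r_ne_q := by rw [d.cardR]; exact d.q_ne_r.symm }
  have hQWc : Q ≤ centralizer (W : Set G) :=
    hpair.le_centralizer_of_omega_fixed hp2 hWp hQW hRW fun x hx hxp =>
      (le_centralizer_iff.1 d.QP) (mem_of_isCyclic_pow hcyc hPC d.cardP hx hxp)
  have hWQ : W ≤ centralizer (Q : Set G) := le_centralizer_iff.1 hQWc
  by_cases hQc : IsCyclic Q
  swap
  · have hAM : A ≤ M := haW.trans (hWQ.trans ((centralizer_le_normalizer _).trans
      (F.sigmaNoncyclic M d.maxM q Q d.sigmaQ d.isPGroup hQM hQc)))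
    exfalso
    refine not_pRankLE_of_le hAM hA ?_ d.tauOne.2.2.2.2
    exact le_trans (Nat.pow_le_pow_right (Fact.out : p.Prime).pos (by norm_num)) hAc
  obtain ⟨Y, hYQ, hY⟩ := exists_card_prime_le d.isPGroup d.ne_bot
  have hWY : W ≤ normalizer (Y : Set G) :=
    hWQ.trans ((centralizer_le (show (Y : Set G) ⊆ Q from hYQ)).trans (centralizer_le_normalizer _))
  have hYp := isPGroup_of_card_prime hY
  obtain ⟨L, hL, hNL⟩ := minSimple_exists_coatom hG (minSimple_normalizer_ne_top hG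
    (ne_bot_of_card_prime hY) (minSimple_ne_top_of_isPGroup hG hYp))
  have hU : Cfsg.InUniqueMaximal W :=
    F.bg10.uniqueness W (minSimple_ne_top_of_isPGroup hG hWp)
      (not_rankLE_of_le haW hA (le_trans (Nat.pow_le_pow_right (Fact.out : p.Prime).pos
        (by norm_num)) hAc))
      (Or.inl (not_rankLE_of_le haW hA hAc))
  have hLH : H = L := (inUniqueMaximal_eq hU d.maxH hWH.le hL (hWY.trans hNL)).symm
  have hNYH : normalizer (Y : Set G) ≤ H := hLH.symm ▸ hNL
  obtain ⟨-, ⟨hqs, heq, hS⟩ | ⟨-, -, hinf, -, -⟩⟩ :=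
    cover F hG d.maxM d.sigmaQ hY (hYQ.trans hQM) d.maxH (ne_of_not_conj d.nonconj) hNYH
  · exact ⟨Y, hYQ, hY, hNYH, hqs, heq, hS⟩
  · exact absurd (le_bot_iff.1 (hinf ▸ le_inf (pGroup_le_sigmaCore F.bg10 d.maxH hps d.PH hPp) d.PM))
      (ne_bot_of_card_prime d.cardP)

/-- The configuration arises from a nontrivial `T = [T, R] ≤ M_σ ∩ C(P)`. -/
theorem exists_preData (hM : IsCoatom M) (hp : p ∈ Cfsg.tau1 M) (hP : Nat.card P = p)
    (hPM : P ≤ M) (hr : r.Prime) (hR : Nat.card R = r) (hRM : R ≤ M)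
    (hRP : R ≤ centralizer (P : Set G)) (hrM : r ∉ Cfsg.sigma M) (hrp : r ≠ p)
    {T : Subgroup G} (hT : T ≤ Cfsg.sigmaCore M ⊓ centralizer (P : Set G))
    (hRT : R ≤ normalizer (T : Set G)) (hTT : ⁅T, R⁆ = T) (hq : q.Prime)
    (hqT : q ∣ Nat.card T) : ∃ H Q : Subgroup G, PreData p r q M H P R Q := by
  haveI := Fact.mk hp.1
  haveI := Fact.mk hq
  have hPp := isPGroup_of_card_prime hP
  obtain ⟨H, hH, hNH⟩ := minSimple_exists_coatom hG (minSimple_normalizer_ne_top hG
    (ne_bot_of_card_prime hP) (minSimple_ne_top_of_isPGroup hG hPp))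
  have hnc := not_conj_of_rank_one F hG hM hp.2.1 hp.2.2.2.2 hP hH hNH
  have hTC : T ≤ centralizer (P : Set G) := hT.trans inf_le_right
  have hTH : T ≤ H := hTC.trans ((centralizer_le_normalizer _).trans hNH)
  have hRH : R ≤ H := hRP.trans ((centralizer_le_normalizer _).trans hNH)
  have hTH' : T ≤ ⁅H, H⁆ := hTT ▸ commutator_mono hTH hRH
  have hTs : IsPiSubgroup (Cfsg.sigma M) T :=
    isPiSubgroup_mono (hT.trans inf_le_left) (isPiSubgroup_sigmaCore M)
  have hTn := isNilpotent_of_le_derived F hG hH hTH' (inf_alphaCore_eq_bot F hG hM hH hnc hTs)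
  obtain ⟨Q, hQT, hQ, hQ1, hNQ, hQR⟩ := exists_part_of_commutator_eq hTn hRT hTT hqT
  exact ⟨H, Q, ⟨hM, hH, hnc, hNH, hr, hq, hp, hP, hR, hPM, hRM, hRP, hrM, hrp, hTs q hq hqT,
    hQT.trans (hT.trans inf_le_left), hQT.trans hTC, hQT.trans hTH', hQ, hQ1, hRT.trans hNQ,
    hQR⟩⟩

end CfsgLib.OddOrder.BG13
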