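import Cfsg.Agent.OddOrder.BG13.PrimeTools

/-!
# The configuration of BG 13 (S1428): the case `p ∈ σ(H) ∖ α(H)`
-/

set_option autoImplicit false
set_option linter.style.haveILetI false
set_option linter.unusedSectionVars false

namespace CfsgLib.OddOrder.BG13

open Cfsg Subgroup
open CfsgLib.OddOrder.BG11
open CfsgLib.ConjFunctor (IsSylowIn exists_isSylowIn_ge)

/-- The Frattini argument for a Sylow subgroup of a normal subgroup `D`, modulo `N` with
nilpotent image of `D`. -/
theorem sup_normalizer_eq_top_of_sylow_normal {X : Type*} [Group X] [Finite X] {q : ℕ}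
    [Fact q.Prime] (N D : Subgroup X) [N.Normal] [hDn : D.Normal] (S : Sylow q D)
    (hnil : Group.IsNilpotent ↥(D.map (QuotientGroup.mk' N))) :
    N ⊔ normalizer (((S : Subgroup D).map D.subtype : Subgroup X) : Set X) = ⊤ := by
  set f := QuotientGroup.mk' N
  have hf : Function.Surjective f := QuotientGroup.mk'_surjective N
  set S' := (S : Subgroup D).map D.subtype
  haveI : (D.map f).Normal := Subgroup.Normal.map hDn f hf
  set T : Sylow q (D.map f) := S.mapSurjective (f.subgroupMap_surjective D)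
  haveI := hnil
  haveI : (T : Subgroup (D.map f)).Normal := inferInstance
  haveI : (T : Subgroup (D.map f)).Characteristic := T.characteristic_of_normal inferInstance
  have hT : (T : Subgroup (D.map f)).map (D.map f).subtype = S'.map f := by
    rw [show (T : Subgroup (D.map f)) = (S : Subgroup D).map (f.subgroupMap D) from rfl, map_map,
      map_map]
    rfl
  haveI : (S'.map f).Normal := by rw [← hT]; infer_instance
  haveI : ((S'.map f).comap f).Normal := inferInstance
  set V := (S'.map f).comap f ⊓ D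
  haveI : V.Normal := inferInstance
  have hS'D : S' ≤ D := map_subtype_le _
  have hS'V : S' ≤ V := le_inf (le_comap_map f S') hS'D
  have hidx : ¬ q ∣ (S'.subgroupOf V).index := by
    intro hd
    apply S.not_dvd_index
    have h1 : S'.relIndex D = (S : Subgroup D).index := by
      rw [Subgroup.relIndex,
        show S'.subgroupOf D = (S : Subgroup D) from comap_map_eq_self_of_injective D.subtype_injective _]
    rw [← h1, ← relIndex_mul_relIndex S' V D hS'V inf_le_right]
    exact dvd_mul_of_dvd_left hd _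
  set P : Sylow q V :=
    (((S.2.map D.subtype : IsPGroup q S')).comap_subtype).toSylow hidx
  have hP : (P : Subgroup V).map V.subtype = S' := by
    change (S'.subgroupOf V).map _ = S'
    rw [subgroupOf_map_subtype, inf_eq_left.2 hS'V]
  have h := Sylow.normalizer_sup_eq_top P
  rw [hP] at h
  refine top_le_iff.1 (h.ge.trans (sup_le le_sup_right (inf_le_left.trans ?_)))
  rw [comap_map_eq, QuotientGroup.ker_mk']
  exact sup_le ((le_normalizer : S' ≤ _).trans le_sup_right) le_sup_left

variable {G : Type*} [Group G] [Finite G] {p q r : ℕ}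

/-- The Frattini argument in `H` for a Sylow subgroup of `H'`. -/
theorem eq_sup_normalizer_derived [Fact q.Prime] {π : Set ℕ} {H U : Subgroup G}
    (hU : IsSylowIn q U ⁅H, H⁆)
    (hnil : Group.IsNilpotent
      ↥((_root_.commutator ↥H).map (QuotientGroup.mk' (Cfsg.piCore π ↥H)))) :
    H = Cfsg.piCoreOf π H ⊔ (H ⊓ normalizer (U : Set G)) := by
  set D := _root_.commutator H
  have hD : D.map H.subtype = ⁅H, H⁆ := map_subtype_commutator H
  have hUH : U ≤ H := hU.le.trans (commutator_le_self H)
  set U₀ := U.subgroupOf H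
  have hU₀ : U₀.map H.subtype = U := by rw [subgroupOf_map_subtype, inf_eq_left.2 hUH]
  have hU₀D : U₀ ≤ D := (map_le_map_iff_of_injective H.subtype_injective).1 (by
    rw [hU₀, hD]; exact hU.le)
  have hidx : ¬ q ∣ (U₀.subgroupOf D).index := by
    change ¬ q ∣ U₀.relIndex D
    rw [← relIndex_map_map_of_injective _ _ H.subtype_injective, hU₀, hD]
    exact hU.not_dvd
  set S : Sylow q D := ((hU.isPGroup.comap_subtype : IsPGroup q U₀).comap_subtype).toSylow hidx
  have hS : (S : Subgroup D).map D.subtype = U₀ := by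
    change (U₀.subgroupOf D).map _ = U₀
    rw [subgroupOf_map_subtype, inf_eq_left.2 hU₀D]
  have h := congrArg (Subgroup.map H.subtype)
    (sup_normalizer_eq_top_of_sylow_normal (Cfsg.piCore π ↥H) D S hnil)
  rw [hS, Subgroup.map_sup, ← MonoidHom.range_eq_map, range_subtype] at h
  refine le_antisymm ?_ (sup_le (piCoreOf_le π H) inf_le_left)
  conv_lhs => rw [← h]
  refine sup_le_sup le_rfl (le_inf (map_subtype_le _) ?_)
  exact (le_normalizer_map _).trans (hU₀ ▸ le_rfl)

/-- The hypotheses of the configuration of S1428: `Q = [Q, R] ≤ M_σ ∩ C(P)` a `q`-group and `H` a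
maximal subgroup over `N(P)`. -/
structure PreData (p r q : ℕ) (M H P R Q : Subgroup G) : Prop where
  maxM : IsCoatom M
  maxH : IsCoatom H
  nonconj : ∀ g : G, H ≠ M.map (MulAut.conj g).toMonoidHom
  normP : normalizer (P : Set G) ≤ H
  primeR : r.Prime
  primeQ : q.Prime
  tauOne : p ∈ Cfsg.tau1 M
  cardP : Nat.card P = p
  cardR : Nat.card R = r
  PM : P ≤ M
  RM : R ≤ M
  RP : R ≤ centralizer (P : Set G)
  rNotSigma : r ∉ Cfsg.sigma M
  r_ne_p : r ≠ p
  sigmaQ : q ∈ Cfsg.sigma M
  QM : Q ≤ Cfsg.sigmaCore M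
  QP : Q ≤ centralizer (P : Set G)
  QH : Q ≤ ⁅H, H⁆
  isPGroup : IsPGroup q Q
  ne_bot : Q ≠ ⊥
  norm : R ≤ normalizer (Q : Set G)
  eq : ⁅Q, R⁆ = Q

variable {M H P R Q : Subgroup G}

theorem PreData.PH (d : PreData p r q M H P R Q) : P ≤ H := le_normalizer.trans d.normP

theorem PreData.RH (d : PreData p r q M H P R Q) : R ≤ H :=
  d.RP.trans ((centralizer_le_normalizer _).trans d.normP)

theorem PreData.q_ne_p (d : PreData p r q M H P R Q) : q ≠ p := fun h => d.tauOne.2.1 (h ▸ d.sigmaQ)

theorem PreData.q_ne_r (d : PreData p r q M H P R Q) : q ≠ r := fun h => d.rNotSigma (h ▸ d.sigmaQ)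

variable (F : BG12Facts G) (hG : Cfsg.IsMinSimpleOddOrder G)
include F hG

theorem PreData.sigma_minus_alpha_false (d : PreData p r q M H P R Q) (hps : p ∈ Cfsg.sigma H)
    (hpa : p ∉ Cfsg.alpha H) : False := by
  haveI := Fact.mk d.tauOne.1
  haveI := Fact.mk d.primeQ
  have hPp := isPGroup_of_card_prime d.cardP
  obtain ⟨U, hQU, hU⟩ := exists_isSylowIn_ge d.QH d.isPGroup
  have heq := eq_sup_normalizer_derived hU (F.bg10.alphaHall H d.maxH).2.2
  have hPd : P ≤ ⁅H, H⁆ := (pGroup_le_sigmaCore F.bg10 d.maxH hps d.PH hPp).trans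
    (sigmaCore_le_derived F.bg10 hG d.maxH)
  -- `H ∩ N(U)` lies in no subgroup with `p` not dividing the order of its derived subgroup
  have kill : ∀ L : Subgroup G, H ⊓ normalizer (U : Set G) ≤ L →
      ¬ p ∣ Nat.card ↥⁅L, L⁆ → False := by
    intro L hL hp
    have hn : H ≤ normalizer ((Cfsg.piCoreOf (Cfsg.alpha H) H : Subgroup G) : Set G) :=
      le_normalizer_piCoreOf _ H
    have h1 := (card_dvd_of_le (hPd.trans (commutator_le_sup_commutator hn heq))).trans
      (card_sup_dvd_mul (((commutator_le_self _).trans inf_le_left).trans hn))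
    rw [d.cardP] at h1
    rcases d.tauOne.1.dvd_mul.1 h1 with h | h
    · exact hpa (isPiSubgroup_piCoreOf _ _ p d.tauOne.1 h)
    · exact hp (h.trans (card_dvd_of_le (commutator_mono hL hL)))
  have killConj : ∀ c : G, ¬ IsCyclic ↥(U ⊓ M.map (MulAut.conj c).toMonoidHom) → False := by
    intro c hc
    set Mc := M.map (MulAut.conj c).toMonoidHom
    have hMc := isCoatom_map_conj d.maxM c
    have hqMc : q ∈ Cfsg.sigma Mc := by rw [sigma_map_conj]; exact d.sigmaQ
    have hN := F.sigmaNoncyclic Mc hMc q (U ⊓ Mc) hqMc (hU.isPGroup.to_le inf_le_left) inf_le_right hc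
    have hUMc : U ≤ Mc := le_of_normalizer_inf_le hU.isPGroup (inf_le_right.trans hN)
    rw [inf_eq_left.2 hUMc] at hN
    refine kill Mc (inf_le_right.trans hN) fun h => d.tauOne.2.2.2.1 ?_
    rwa [← map_commutator, card_map_conj] at h
  have hUM : IsCyclic ↥(U ⊓ M) := by
    by_contra h
    exact killConj 1 (by rwa [map_conj_one])
  have hQM : Q ≤ M := d.QM.trans (sigmaCore_le M)
  haveI := hUM
  have hQc : IsCyclic Q := Subgroup.isCyclic_of_le (le_inf hQU hQM)
  obtain ⟨Y, hYQ, hY⟩ := exists_card_prime_le d.isPGroup d.ne_bot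
  by_cases hNYM : normalizer (Y : Set G) ≤ M
  · have h1 := (normalizer_le_normalizer_of_isCyclic hUM (hYQ.trans (le_inf hQU hQM))).trans hNYM
    have hUle : U ≤ M := le_of_normalizer_inf_le hU.isPGroup (inf_le_right.trans h1)
    rw [inf_eq_left.2 hUle] at h1
    exact kill M (inf_le_right.trans h1) d.tauOne.2.2.2.1
  have hYp := isPGroup_of_card_prime hY
  obtain ⟨L, hL, hNL⟩ := minSimple_exists_coatom hG (minSimple_normalizer_ne_top hG
    (ne_bot_of_card_prime hY) (minSimple_ne_top_of_isPGroup hG hYp))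
  have hLM : L ≠ M := fun h => hNYM (h ▸ hNL)
  have hYL : Y ≤ L := le_normalizer.trans hNL
  by_cases hUL : IsCyclic ↥(U ⊓ L)
  · have h1 := (normalizer_le_normalizer_of_isCyclic hUL (le_inf (hYQ.trans hQU) hYL)).trans hNL
    have hUle : U ≤ L := le_of_normalizer_inf_le hU.isPGroup (inf_le_right.trans h1)
    rw [inf_eq_left.2 hUle] at h1
    refine kill L (inf_le_right.trans h1) fun hpL => ?_
    -- `p` does not divide the order of `L'`
    have haux : ∀ K : Subgroup G, L ≤ normalizer (K : Set G) → L = K ⊔ (M ⊓ L) →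
        ¬ p ∣ Nat.card K → False := by
      intro K hK hKeq hpK
      have h2 := hpL.trans ((card_dvd_of_le (commutator_le_sup_commutator hK hKeq)).trans
        (card_sup_dvd_mul (((commutator_le_self _).trans inf_le_right).trans hK)))
      rcases d.tauOne.1.dvd_mul.1 h2 with h | h
      · exact hpK h
      · exact d.tauOne.2.2.2.1 (h.trans (card_dvd_of_le (commutator_mono inf_le_left inf_le_left)))
    obtain ⟨-, ⟨-, hLeq, -⟩ | ⟨-, -, hinf, hLeq, -⟩⟩ :=
      cover F hG d.maxM d.sigmaQ hY (hYQ.trans hQM) hL hLM hNL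
    · refine haux _ (le_normalizer_betaCore L) hLeq fun h => hpa ⟨d.tauOne.1, ?_⟩
      have hb := isPiSubgroup_piCoreOf _ _ p d.tauOne.1 h
      obtain ⟨A, -, hA, hAc⟩ := exists_elementary_of_not_pRankLE hb.1.2
      obtain ⟨T, hT⟩ := exists_isSylowIn (p := p) H
      obtain ⟨a, -, ha⟩ := (isSylowIn_top_of_sigma F.bg10 d.maxH hps hT).exists_cj_le le_top
        (isPGroup_of_isElementaryAbelian hA)
      exact not_pRankLE_of_le (ha.trans hT.le)
        (isElementaryAbelian_map (MulAut.conj a).toMonoidHom hA) (by rwa [card_map_conj])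
    · refine haux _ (le_normalizer_sigmaCore L) hLeq fun h => ?_
      have hpL' := isPiSubgroup_sigmaCore L p d.tauOne.1 h
      have hPY : P ≤ centralizer (Y : Set G) :=
        (le_centralizer_iff.1 d.QP).trans (centralizer_le (show (Y : Set G) ⊆ Q from hYQ))
      have hPL : P ≤ Cfsg.sigmaCore L ⊓ M := le_inf (pGroup_le_sigmaCore F.bg10 hL hpL'
        (hPY.trans ((centralizer_le_normalizer _).trans hNL)) hPp) d.PM
      rw [hinf, le_bot_iff] at hPL
      exact ne_bot_of_card_prime d.cardP hPL
  · obtain ⟨h, -, hh⟩ := cover_conj F hG d.maxM d.sigmaQ hY (hYQ.trans hQM) hL hLM hNL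
      (U := U ⊓ L) inf_le_right fun s hs hd => by
        obtain ⟨n, hn⟩ := IsPGroup.iff_card.1 (hU.isPGroup.to_le (inf_le_left : U ⊓ L ≤ U))
        rw [hn] at hd
        exact Or.inl (((Nat.prime_dvd_prime_iff_eq hs d.primeQ).1 (hs.dvd_of_dvd_pow hd)).symm ▸
          d.sigmaQ)
    refine killConj h⁻¹ fun hc => hUL ?_
    have h2 : U ⊓ L ≤ M.map (MulAut.conj h⁻¹).toMonoidHom := by
      have h3 := map_mono (f := (MulAut.conj h⁻¹).toMonoidHom) (hh.trans inf_le_left)
      rwa [map_conj_map_conj, inv_mul_cancel, map_conj_one] at h3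
    haveI := hc
    exact Subgroup.isCyclic_of_le (le_inf inf_le_left h2)

end CfsgLib.OddOrder.BG13
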