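import Cfsg.Agent.OddOrder.BG13.TauKill
import Cfsg.Agent.OddOrder.BG9.RankThree

/-!
# Tools for the prime action lemmas of BG 13
-/

set_option autoImplicit false
set_option linter.style.haveILetI false
set_option linter.unusedSectionVars false

namespace CfsgLib.OddOrder.BG13

open Cfsg Subgroup
open CfsgLib.OddOrder.BG11
open CfsgLib.ConjFunctor (IsSylowIn exists_isSylowIn_ge)
open scoped commutatorElement

/-! ### General group theory -/

section General

variable {G : Type*} [Group G] [Finite G] {p q r : ℕ}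

theorem ne_bot_of_card_prime {X : Subgroup G} [Fact p.Prime] (hX : Nat.card X = p) : X ≠ ⊥ :=
  fun h => (Fact.out : p.Prime).ne_one (by rw [← hX, h, Subgroup.card_bot])

theorem isPGroup_of_card_prime {X : Subgroup G} (hX : Nat.card X = p) : IsPGroup p X :=
  IsPGroup.of_card (n := 1) (by rw [hX, pow_one])

theorem isElementaryAbelian_of_card_prime {X : Subgroup G} [Fact p.Prime] (hX : Nat.card X = p) :
    Cfsg.IsElementaryAbelian p X := by
  haveI := isCyclic_of_prime_card hX
  refine ⟨inferInstance, fun a ha => ?_⟩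
  have h := congrArg Subtype.val (pow_card_eq_one' (x := (⟨a, ha⟩ : X)))
  rw [hX] at h
  simpa using h

theorem card_sup_dvd_mul {A B : Subgroup G} (hB : B ≤ normalizer (A : Set G)) :
    Nat.card ↥(A ⊔ B) ∣ Nat.card A * Nat.card B := by
  rw [← PLocal.card_mul_relIndex (le_sup_left : A ≤ A ⊔ B)]
  refine Nat.mul_dvd_mul_left _ ?_
  haveI : (A.subgroupOf (A ⊔ B)).Normal :=
    (normal_subgroupOf_iff_le_normalizer le_sup_left).2 (sup_le le_normalizer hB)
  have h1 : A.subgroupOf (A ⊔ B) ⊔ B.subgroupOf (A ⊔ B) = ⊤ := by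
    rw [← subgroupOf_sup le_sup_left le_sup_right, subgroupOf_self]
  have h2 : (A.subgroupOf (A ⊔ B)).relIndex (B.subgroupOf (A ⊔ B)) = A.relIndex (A ⊔ B) := by
    rw [← relIndex_sup_right]
    rw [show B.subgroupOf (A ⊔ B) ⊔ A.subgroupOf (A ⊔ B) = ⊤ from (sup_comm _ _).trans h1,
      relIndex_top_right]
    rfl
  rw [← h2, ← Nat.card_congr (subgroupOfEquivOfLe (le_sup_right : B ≤ A ⊔ B)).toEquiv]
  exact relIndex_dvd_card _ _

theorem isElementaryAbelian_sup {A X : Subgroup G} [Fact p.Prime]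
    (hA : Cfsg.IsElementaryAbelian p A) (hX : Nat.card X = p)
    (hc : X ≤ centralizer (A : Set G)) : Cfsg.IsElementaryAbelian p (A ⊔ X) := by
  obtain ⟨x, hx, hx1⟩ := exists_mem_ne_one_of_card hX
  rw [← zpowers_eq_of_card hX hx hx1]
  exact elem_sup_zpowers hA ((isElementaryAbelian_of_card_prime hX).2 x hx) (hc hx)

/-- In a subgroup of `r`-rank `1`, an `r`-group has only one subgroup of order `r`. -/
theorem eq_of_card_prime_of_rank_one [Fact r.Prime] {S M X Y : Subgroup G} (hS : IsPGroup r S)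
    (hSM : S ≤ M) (hr1 : Cfsg.PRankLE r 1 M) (hXS : X ≤ S) (hX : Nat.card X = r) (hYS : Y ≤ S)
    (hY : Nat.card Y = r) : X = Y := by
  haveI : Nontrivial S := (Subgroup.nontrivial_iff_ne_bot S).2 fun h =>
    ne_bot_of_card_prime hX (le_bot_iff.1 (h ▸ hXS))
  set C := (Subgroup.center S).map S.subtype
  have hC : C ≠ ⊥ := fun h => by
    haveI := hS.center_nontrivial
    exact (Subgroup.nontrivial_iff_ne_bot _).1 inferInstance
      ((map_eq_bot_iff_of_injective _ S.subtype_injective).1 h)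
  obtain ⟨Z, hZC, hZ⟩ := exists_card_prime_le ((hS.to_subgroup (Subgroup.center S)).map S.subtype) hC
  have key : ∀ W : Subgroup G, W ≤ S → Nat.card W = r → W = Z := by
    intro W hWS hW
    by_contra hne
    have hWZ : W ≤ centralizer (Z : Set G) := by
      intro w hw
      refine mem_centralizer_iff.2 fun z hz => ?_
      obtain ⟨z', hz', rfl⟩ := hZC hz
      exact (congrArg Subtype.val (mem_center_iff.1 hz' ⟨w, hWS hw⟩)).symm
    exact not_pRankLE_one_of_card_sq (sup_le ((hZC.trans (map_subtype_le _)).trans hSM)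
      (hWS.trans hSM)) (isElementaryAbelian_sup (isElementaryAbelian_of_card_prime hZ) hW hWZ)
      (card_sup_eq_sq hZ hW (hWZ.trans (centralizer_le_normalizer _)) (Ne.symm hne)) hr1
  exact (key X hXS hX).trans (key Y hYS hY).symm

/-- In a group of `r`-rank `1` the subgroups of order `r` are conjugate. -/
theorem exists_map_conj_eq_of_rank_one [Fact r.Prime] {M X Y : Subgroup G}
    (hr1 : Cfsg.PRankLE r 1 M) (hXM : X ≤ M) (hX : Nat.card X = r) (hYM : Y ≤ M)
    (hY : Nat.card Y = r) : ∃ m ∈ M, X.map (MulAut.conj m).toMonoidHom = Y := by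
  obtain ⟨T, hXT, hT⟩ := exists_isSylowIn_ge hXM (isPGroup_of_card_prime hX)
  obtain ⟨a, ha, haT⟩ := hT.exists_cj_le hYM (isPGroup_of_card_prime hY)
  refine ⟨a⁻¹, inv_mem ha, ?_⟩
  have h := eq_of_card_prime_of_rank_one hT.isPGroup hT.le hr1 hXT hX haT
    (by rw [card_map_conj, hY])
  rw [h, map_conj_map_conj, inv_mul_cancel, map_conj_one]

/-- If `M` has `r`-rank `2`, every subgroup of order `r` lies in an elementary abelian subgroup of
order `r ^ 2`. -/
theorem exists_elementary_sq_ge [Fact r.Prime] {M X : Subgroup G} (hr2 : Cfsg.PRankLE r 2 M)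
    (hr1 : ¬ Cfsg.PRankLE r 1 M) (hXM : X ≤ M) (hX : Nat.card X = r) :
    ∃ A : Subgroup G, X ≤ A ∧ A ≤ M ∧ Cfsg.IsElementaryAbelian r A ∧ Nat.card A = r ^ 2 := by
  have hsq : ∀ A : Subgroup G, A ≤ M → Cfsg.IsElementaryAbelian r A → r ^ 2 ≤ Nat.card A →
      Nat.card A = r ^ 2 := by
    intro A hAM hA hc
    obtain ⟨n, hn⟩ := IsPGroup.iff_card.1 (isPGroup_of_isElementaryAbelian hA)
    have h2 : ¬ r ^ 3 ≤ Nat.card A := fun h3 => not_pRankLE_of_le hAM hA h3 hr2
    rw [hn] at hc h2 ⊢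
    rw [Nat.pow_le_pow_iff_right (Fact.out : r.Prime).one_lt] at hc h2
    congr 1
    omega
  obtain ⟨T, hXT, hT⟩ := exists_isSylowIn_ge hXM (isPGroup_of_card_prime hX)
  obtain ⟨A₀, hA₀M, hA₀, hA₀c⟩ := exists_elementary_of_not_pRankLE hr1
  obtain ⟨a, -, haT⟩ := hT.exists_cj_le hA₀M (isPGroup_of_isElementaryAbelian hA₀)
  set A := A₀.map (MulAut.conj a).toMonoidHom
  have hA : Cfsg.IsElementaryAbelian r A := isElementaryAbelian_map (MulAut.conj a).toMonoidHom hA₀
  have hAc : r ^ 2 ≤ Nat.card A := by rwa [card_map_conj]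
  haveI : Nontrivial T := (Subgroup.nontrivial_iff_ne_bot T).2 fun h =>
    ne_bot_of_card_prime hX (le_bot_iff.1 (h ▸ hXT))
  set C := (Subgroup.center T).map T.subtype
  have hC : C ≠ ⊥ := fun h => by
    haveI := hT.isPGroup.center_nontrivial
    exact (Subgroup.nontrivial_iff_ne_bot _).1 inferInstance
      ((map_eq_bot_iff_of_injective _ T.subtype_injective).1 h)
  obtain ⟨Z, hZC, hZ⟩ :=
    exists_card_prime_le ((hT.isPGroup.to_subgroup (Subgroup.center T)).map T.subtype) hC
  have hcent : ∀ W : Subgroup G, W ≤ T → W ≤ centralizer (Z : Set G) := by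
    intro W hWT w hw
    refine mem_centralizer_iff.2 fun z hz => ?_
    obtain ⟨z', hz', rfl⟩ := hZC hz
    exact (congrArg Subtype.val (mem_center_iff.1 hz' ⟨w, hWT hw⟩)).symm
  have hZT : Z ≤ T := hZC.trans (map_subtype_le _)
  by_cases hXZ : X = Z
  · subst hXZ
    refine ⟨A ⊔ X, le_sup_right, sup_le (haT.trans hT.le) hXM,
      isElementaryAbelian_sup hA hX ?_, ?_⟩
    · exact le_centralizer_iff.1 (hcent A haT)
    · exact hsq _ (sup_le (haT.trans hT.le) hXM)
        (isElementaryAbelian_sup hA hX (le_centralizer_iff.1 (hcent A haT)))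
        (hAc.trans (Subgroup.card_le_of_le le_sup_left))
  · exact ⟨Z ⊔ X, le_sup_right, sup_le (hZT.trans hT.le) hXM,
      isElementaryAbelian_sup (isElementaryAbelian_of_card_prime hZ) hX (hcent X hXT),
      card_sup_eq_sq hZ hX ((hcent X hXT).trans (centralizer_le_normalizer _)) (Ne.symm hXZ)⟩

theorem pRankLE_of_map_conj {k : ℕ} [Fact p.Prime] {M : Subgroup G} (g : G)
    (h : Cfsg.PRankLE p k M) : Cfsg.PRankLE p k ↥(M.map (MulAut.conj g).toMonoidHom) := by
  by_contra hc
  obtain ⟨A, hAM, hA, hAc⟩ := exists_elementary_of_not_pRankLE hc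
  refine not_pRankLE_of_le (A := A.map (MulAut.conj g⁻¹).toMonoidHom) ?_
    (isElementaryAbelian_map (MulAut.conj g⁻¹).toMonoidHom hA) (by rwa [card_map_conj]) h
  have h2 := map_mono (f := (MulAut.conj g⁻¹).toMonoidHom) hAM
  rwa [map_conj_map_conj, inv_mul_cancel, map_conj_one] at h2

/-- An element of exponent `p` of a cyclic group containing a subgroup `P` of order `p` is in `P`. -/
theorem mem_of_isCyclic_pow [Fact p.Prime] {C P : Subgroup G} (hC : IsCyclic C) (hPC : P ≤ C)
    (hP : Nat.card P = p) {x : G} (hx : x ∈ C) (hxp : x ^ p = 1) : x ∈ P := by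
  by_contra hxP
  have hx1 : x ≠ 1 := fun h => hxP (h ▸ one_mem P)
  have hord : orderOf x = p := orderOf_eq_prime hxp hx1
  have hXC : zpowers x ≤ C := zpowers_le.2 hx
  have hX : Nat.card (zpowers x) = p := by rw [Nat.card_zpowers, hord]
  have hc : zpowers x ≤ centralizer (P : Set G) := by
    intro a ha
    refine mem_centralizer_iff.2 fun b hb => ?_
    obtain ⟨g, hg⟩ := hC.exists_generator
    obtain ⟨i, hi⟩ := mem_zpowers_iff.1 (hg ⟨a, hXC ha⟩)
    obtain ⟨j, hj⟩ := mem_zpowers_iff.1 (hg ⟨b, hPC hb⟩)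
    have hi' : (g : G) ^ i = a := by simpa using congrArg Subtype.val hi
    have hj' : (g : G) ^ j = b := by simpa using congrArg Subtype.val hj
    rw [← hi', ← hj', ← zpow_add, ← zpow_add, add_comm]
  have he : Cfsg.IsElementaryAbelian p (P ⊔ zpowers x) :=
    isElementaryAbelian_sup (isElementaryAbelian_of_card_prime hP) hX hc
  refine not_isCyclic_of_card_sq he (card_sup_eq_sq hP hX (hc.trans (centralizer_le_normalizer _))
    fun h => hxP (h ▸ mem_zpowers x)) ?_
  haveI := hC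
  exact Subgroup.isCyclic_of_le (sup_le hPC hXC)

/-- The `q`-part of a nilpotent group `T = [T, R]` satisfies the same equation. -/
theorem exists_part_of_commutator_eq [Fact q.Prime] {T R : Subgroup G} (hT : Group.IsNilpotent T)
    (hRT : R ≤ normalizer (T : Set G)) (heq : ⁅T, R⁆ = T) (hq : q ∣ Nat.card T) :
    ∃ Q : Subgroup G, Q ≤ T ∧ IsPGroup q Q ∧ Q ≠ ⊥ ∧
      normalizer (T : Set G) ≤ normalizer (Q : Set G) ∧ ⁅Q, R⁆ = Q := by
  haveI := hT
  obtain ⟨P⟩ : Nonempty (Sylow q T) := inferInstance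
  haveI : (P : Subgroup T).Normal := inferInstance
  haveI : (P : Subgroup T).Characteristic := P.characteristic_of_normal inferInstance
  set Q := (P : Subgroup T).map T.subtype
  set π : Set ℕ := {s | s ≠ q}
  set W := Cfsg.piCoreOf π T
  have hQT : Q ≤ T := map_subtype_le _
  have hQp : IsPGroup q Q := P.2.map _
  have hQ1 : Q ≠ ⊥ := by
    intro h
    have h1 := (map_eq_bot_iff_of_injective _ T.subtype_injective).1 h
    exact P.not_dvd_index (by rw [h1, index_bot]; exact hq)
  have hNQ : normalizer (T : Set G) ≤ normalizer (Q : Set G) :=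
    normalizer_le_normalizer_map_char T _
  have hNW : normalizer (T : Set G) ≤ normalizer (W : Set G) :=
    normalizer_le_normalizer_piCoreOf π T
  have hWT : W ≤ T := piCoreOf_le π T
  have hQW : Q ⊓ W = ⊥ := inf_eq_bot_of_isPiSubgroup (π := ({q} : Set ℕ)) (ρ := π)
    (isPiSubgroup_of_isPGroup hQp rfl) (isPiSubgroup_piCoreOf π T)
    (Set.disjoint_left.2 fun s hs hs' => hs' hs)
  have hgen : T ≤ Q ⊔ W := by
    refine BG4.le_of_sylow_le fun s hs => ?_
    haveI := Fact.mk hs
    by_cases hsq : s = q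
    · subst hsq
      exact ⟨P, le_sup_left⟩
    · obtain ⟨S⟩ : Nonempty (Sylow s T) := inferInstance
      haveI : (S : Subgroup T).Normal := inferInstance
      refine ⟨S, le_trans ?_ le_sup_right⟩
      exact map_mono (le_piCore (isPiSubgroup_of_isPGroup S.2 hsq))
  have hRQ : ⁅Q, R⁆ ≤ Q :=
    CfsgLib.Coprime.commutator_le_of_le_normalizer (hRT.trans hNQ)
  have hQRW : ⁅Q, R⁆ ≤ normalizer (W : Set G) :=
    hRQ.trans (hQT.trans (le_normalizer.trans hNW))
  have hsub : ⁅T, R⁆ ≤ W ⊔ ⁅Q, R⁆ := by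
    refine commutator_le.2 fun t ht a ha => ?_
    obtain ⟨w, hw, x, hx, rfl⟩ := Coprime.exists_mul_of_mem_sup
      (hQT.trans (le_normalizer.trans hNW)) (sup_comm Q W ▸ hgen ht)
    have h1 : ⁅w * x, a⁆ = (w * ⁅x, a⁆ * w⁻¹) * ⁅w, a⁆ := by
      simp only [commutatorElement_def]
      group
    rw [h1]
    refine mul_mem (mul_mem (mul_mem (mem_sup_left hw) (mem_sup_right
      (commutator_mem_commutator hx ha))) (inv_mem (mem_sup_left hw))) (mem_sup_left ?_)
    exact CfsgLib.Coprime.commutator_le_of_le_normalizer (hRT.trans hNW)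
      (commutator_mem_commutator hw ha)
  refine ⟨Q, hQT, hQp, hQ1, hNQ, le_antisymm hRQ fun x hx => ?_⟩
  obtain ⟨w, hw, b, hb, rfl⟩ := Coprime.exists_mul_of_mem_sup hQRW (hsub (heq.symm ▸ hQT hx))
  have hw1 : w ∈ Q ⊓ W := ⟨by simpa using mul_mem hx (inv_mem (hRQ hb)), hw⟩
  rw [hQW, mem_bot] at hw1
  simpa [hw1] using hb

end General

/-! ### Maximal subgroups -/

section Maximal

variable {G : Type*} [Group G] [Finite G] {p : ℕ} {M H : Subgroup G}
variable (F : BG12Facts G) (hG : Cfsg.IsMinSimpleOddOrder G)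
include F hG

theorem inf_alphaCore_eq_bot (hM : IsCoatom M) (hH : IsCoatom H)
    (hnc : ∀ g : G, H ≠ M.map (MulAut.conj g).toMonoidHom) {T : Subgroup G}
    (hT : IsPiSubgroup (Cfsg.sigma M) T) : T ⊓ Cfsg.alphaCore H = ⊥ := by
  refine inf_eq_bot_of_isPiSubgroup hT (isPiSubgroup_piCoreOf (Cfsg.alpha H) H) ?_
  refine Set.disjoint_left.2 fun r hr hr' => ?_
  haveI := Fact.mk hr'.1
  exact not_alpha_of_sigma F hG hM hH hnc hr hr'

/-- A subgroup of `H'` meeting `H_α` trivially is nilpotent. -/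
theorem isNilpotent_of_le_derived (hH : IsCoatom H) {T : Subgroup G} (hT : T ≤ ⁅H, H⁆)
    (hbot : T ⊓ Cfsg.alphaCore H = ⊥) : Group.IsNilpotent T := by
  have hTH : T ≤ H := hT.trans (commutator_le_self H)
  obtain ⟨-, -, hnil⟩ := F.bg10.alphaHall H hH
  set f := QuotientGroup.mk' (Cfsg.piCore (Cfsg.alpha H) ↥H)
  set T₀ := T.subgroupOf H
  have hT₀ : T₀ ≤ _root_.commutator H := by
    refine (map_le_map_iff_of_injective H.subtype_injective).1 ?_
    rw [subgroupOf_map_subtype, inf_eq_left.2 hTH, map_subtype_commutator]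
    exact hT
  have hinj : Function.Injective (f.comp T₀.subtype) := by
    rw [injective_iff_map_eq_one]
    intro x hx
    have hxN : (x : H) ∈ Cfsg.piCore (Cfsg.alpha H) ↥H := (QuotientGroup.eq_one_iff _).1 hx
    have h3 : ((x : H) : G) ∈ T ⊓ Cfsg.alphaCore H := ⟨x.2, ⟨_, hxN, rfl⟩⟩
    rw [hbot, mem_bot] at h3
    exact Subtype.ext (Subtype.ext h3)
  haveI := hnil
  haveI h4 : Group.IsNilpotent ↥(T₀.map f) :=
    Group.nilpotent_of_mulEquiv (subgroupOfEquivOfLe (map_mono (f := f) hT₀))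
  haveI h4' : Group.IsNilpotent ↥(f.comp T₀.subtype).range := by
    rwa [MonoidHom.range_comp, range_subtype]
  have h5 : Group.IsNilpotent T₀ :=
    Group.nilpotent_of_mulEquiv (MonoidHom.ofInjective hinj).symm
  exact (Group.isNilpotent_congr (subgroupOfEquivOfLe hTH)).1 h5

/-- Subgroups of coprime order of `H'` commute modulo `H_α`. -/
theorem commutator_le_alphaCore (hH : IsCoatom H) {A B : Subgroup G} (hA : A ≤ ⁅H, H⁆)
    (hB : B ≤ ⁅H, H⁆) (hcop : (Nat.card A).Coprime (Nat.card B)) :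
    ⁅A, B⁆ ≤ Cfsg.alphaCore H := by
  have hAH : A ≤ H := hA.trans (commutator_le_self H)
  have hBH : B ≤ H := hB.trans (commutator_le_self H)
  obtain ⟨-, -, hnil⟩ := F.bg10.alphaHall H hH
  set f := QuotientGroup.mk' (Cfsg.piCore (Cfsg.alpha H) ↥H)
  have hle : ∀ C : Subgroup G, C ≤ ⁅H, H⁆ →
      (C.subgroupOf H).map f ≤ (_root_.commutator H).map f := by
    intro C hC
    refine map_mono ((map_le_map_iff_of_injective H.subtype_injective).1 ?_)
    rw [subgroupOf_map_subtype, inf_eq_left.2 (hC.trans (commutator_le_self H)),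
      map_subtype_commutator]
    exact hC
  have hcd : ∀ C : Subgroup G, C ≤ H → Nat.card ((C.subgroupOf H).map f) ∣ Nat.card C :=
    fun C hC => (card_map_dvd _ f).trans
      (dvd_of_eq (Nat.card_congr (subgroupOfEquivOfLe hC).toEquiv))
  have h := le_centralizer_of_coprime_nilpotent hnil (hle A hA) (hle B hB)
    ((hcop.coprime_dvd_left (hcd A hAH)).coprime_dvd_right (hcd B hBH))
  rw [← commutator_eq_bot_iff_le_centralizer, ← map_commutator, Subgroup.map_eq_bot_iff,
    QuotientGroup.ker_mk'] at h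
  refine commutator_le.2 fun a ha b hb => ?_
  exact ⟨⁅(⟨a, hAH ha⟩ : H), ⟨b, hBH hb⟩⁆, h (commutator_mem_commutator ha hb), by
    simp [map_commutatorElement]⟩

/-- A maximal subgroup over the normalizer of `X` of order `p`, `p ∉ σ(M)`, `M` of `p`-rank `1`,
is not conjugate to `M`. -/
theorem not_conj_of_rank_one [Fact p.Prime] (hM : IsCoatom M) (hpM : p ∉ Cfsg.sigma M)
    (hp1 : Cfsg.PRankLE p 1 M) {X : Subgroup G} (hX : Nat.card X = p) (hH : IsCoatom H)
    (hNX : normalizer (X : Set G) ≤ H) : ∀ g : G, H ≠ M.map (MulAut.conj g).toMonoidHom := by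
  rintro g rfl
  refine (F.orderP _ hH p ?_ X hX hNX).1 (pRankLE_of_map_conj g hp1)
  rwa [sigma_map_conj]

theorem tau_two_of_normalizer_le [Fact p.Prime] (hH : IsCoatom H) (hpH : p ∉ Cfsg.sigma H)
    {X : Subgroup G} (hX : Nat.card X = p) (hNX : normalizer (X : Set G) ≤ H) :
    p ∈ Cfsg.tau2 H :=
  ⟨Fact.out, hpH, pRankLE_two_of_not_sigma F.bg10 hH hpH, (F.orderP H hH p hpH X hX hNX).1⟩

end Maximal

end CfsgLib.OddOrder.BG13
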