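import Cfsg.Agent.OddOrder.BG13.Covering
import Cfsg.Agent.OddOrder.BG2.Abelem2

/-!
# A configuration with `r ∈ τ₂(H)` that cannot occur
-/

set_option autoImplicit false
set_option linter.style.haveILetI false
set_option linter.unusedSectionVars false

namespace CfsgLib.OddOrder.BG13

open Cfsg Subgroup
open CfsgLib.OddOrder.BG11
open CfsgLib.ConjFunctor (IsSylowIn exists_isSylowIn_ge)

variable {G : Type*} [Group G] [Finite G] {q r : ℕ} {M H : Subgroup G}

theorem exists_elementary_sq_of_tau_two [Fact r.Prime] (hr : r ∈ Cfsg.tau2 H) :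
    ∃ A : Subgroup G, A ≤ H ∧ Cfsg.IsElementaryAbelian r A ∧ Nat.card A = r ^ 2 := by
  obtain ⟨A, hAH, hA, hc⟩ := exists_elementary_of_not_pRankLE hr.2.2.2
  obtain ⟨n, hn⟩ := IsPGroup.iff_card.1 (isPGroup_of_isElementaryAbelian hA)
  refine ⟨A, hAH, hA, ?_⟩
  have h2 : ¬ r ^ 3 ≤ Nat.card A := fun h3 => not_pRankLE_of_le hAH hA h3 hr.2.2.1
  rw [hn] at hc h2 ⊢
  have hr1 := (Fact.out : r.Prime).one_lt
  rw [Nat.pow_le_pow_iff_right hr1] at hc h2
  congr 1
  omega

/-- An element of `q`-power order lies in a subgroup as soon as its `r`-th power does. -/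
theorem mem_of_pow_mem_of_ne [Fact r.Prime] [Fact q.Prime] (hne : r ≠ q) {Q C : Subgroup G}
    (hQ : IsPGroup q Q) {x : G} (hx : x ∈ Q) (h : x ^ r ∈ C) : x ∈ C := by
  obtain ⟨n, hn⟩ := IsPGroup.iff_orderOf.1 hQ ⟨x, hx⟩
  have hco : (orderOf x).Coprime r := by
    rw [← Subgroup.orderOf_mk x hx, hn]
    exact Nat.Coprime.pow_left n ((Nat.coprime_primes Fact.out Fact.out).2 hne.symm)
  obtain ⟨k, hk⟩ := exists_pow_eq_self_of_coprime (x := x) hco.symm
  exact hk ▸ pow_mem h k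

variable (F : BG12Facts G) (hG : Cfsg.IsMinSimpleOddOrder G)
include F hG

/-- `H ∩ H'` meets a complement `E` of `H_σ` in `E'`. -/
theorem le_commutator_complIn (hH : IsCoatom H) {E : Subgroup G}
    (hE : Cfsg.IsComplIn E (Cfsg.sigmaCore H) H) : E ⊓ ⁅H, H⁆ ≤ ⁅E, E⁆ := by
  have heq : H = Cfsg.sigmaCore H ⊔ E := le_antisymm
    (fun m hm => by
      obtain ⟨e, he, y, hy, rfl⟩ := hE.2.2.2 m hm
      exact mul_mem (mem_sup_right he) (mem_sup_left hy))
    (sup_le (sigmaCore_le H) hE.1)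
  intro x hx
  obtain ⟨hxE, hxH⟩ := mem_inf.1 hx
  have h1 := commutator_le_sup_commutator (le_normalizer_sigmaCore H) heq hxH
  obtain ⟨s, hs, e, he, rfl⟩ := Coprime.exists_mul_of_mem_sup
    (((commutator_le_self E).trans hE.1).trans (le_normalizer_sigmaCore H)) h1
  have hs1 : s ∈ E ⊓ Cfsg.sigmaCore H :=
    ⟨by simpa using mul_mem hxE (inv_mem (commutator_le_self E he)), hs⟩
  rw [hE.2.2.1, mem_bot] at hs1
  simpa [hs1] using he

/-- Let `H` be not conjugate to `M`, `r ∈ τ₂(H)`, `M` of `r`-rank `1`. No subgroup of order `r` of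
`M` normalizes a nontrivial `q`-subgroup of `M ∩ H'` for `q ∈ σ(M)`. -/
theorem tau_two_false [Fact r.Prime] [Fact q.Prime] (hM : IsCoatom M) (hH : IsCoatom H)
    (hnc : ∀ g : G, H ≠ M.map (MulAut.conj g).toMonoidHom) (hr : r ∈ Cfsg.tau2 H)
    (hr1 : Cfsg.PRankLE r 1 M) (hq : q ∈ Cfsg.sigma M) {Q X : Subgroup G} (hQ : IsPGroup q Q)
    (hQ1 : Q ≠ ⊥) (hQM : Q ≤ M) (hQH : Q ≤ ⁅H, H⁆) (hX : Nat.card X = r) (hXM : X ≤ M)
    (hXQ : X ≤ normalizer (Q : Set G)) : False := by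
  have hQH' : Q ≤ H := hQH.trans (commutator_le_self H)
  have noM : ∀ A : Subgroup G, A ≤ M → Cfsg.IsElementaryAbelian r A → Nat.card A = r ^ 2 → False :=
    fun A h1 h2 h3 => not_pRankLE_one_of_card_sq h1 h2 h3 hr1
  obtain ⟨A₀, hA₀H, hA₀, hA₀c⟩ := exists_elementary_sq_of_tau_two hr
  have hA₀p : IsPGroup r A₀ := isPGroup_of_isElementaryAbelian hA₀
  obtain ⟨hnil, -⟩ := F.tauTwo H hH r hr A₀ hA₀H hA₀ hA₀c
  have hqH : q ∉ Cfsg.sigma H := fun h =>
    (disjoint_sigma_of_nilpotent F hG hM hH hnc hnil).le_bot ⟨hq, h⟩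
  have hrM : r ∉ Cfsg.sigma M := by
    intro h
    obtain ⟨T, hT⟩ := exists_isSylowIn (p := r) M
    obtain ⟨a, -, ha⟩ := (isSylowIn_top_of_sigma F.bg10 hM h hT).exists_cj_le le_top hA₀p
    exact noM _ (ha.trans hT.le) (isElementaryAbelian_map (MulAut.conj a).toMonoidHom hA₀)
      (by rw [card_map_conj, hA₀c])
  have hrq : r ≠ q := fun h => hrM (h ▸ hq)
  -- a complement of `H_σ` containing `Q` and a conjugate `A` of `A₀`
  obtain ⟨E, hQE, hE⟩ := exists_complIn_ge F hG hH hQH' fun s hs hd => by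
    obtain ⟨n, hn⟩ := IsPGroup.iff_card.1 hQ
    rw [hn] at hd
    exact ((Nat.prime_dvd_prime_iff_eq hs Fact.out).1 (hs.dvd_of_dvd_pow hd)).symm ▸ hqH
  have heq : H = Cfsg.sigmaCore H ⊔ E := le_antisymm
    (fun m hm => by
      obtain ⟨e, he, y, hy, rfl⟩ := hE.2.2.2 m hm
      exact mul_mem (mem_sup_right he) (mem_sup_left hy))
    (sup_le (sigmaCore_le H) hE.1)
  haveI := minSimple_coatom_solvable hG hH
  obtain ⟨a, -, haE⟩ := exists_conj_le_of_relIndex (π := ({r} : Set ℕ)) hE.1 hA₀H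
    (isPiSubgroup_of_isPGroup hA₀p rfl) fun s hs hd hs' => by
    have h1 := isPiSubgroup_sigmaCore H s hs
      (hd.trans (relIndex_dvd_card_of_eq_sup (le_normalizer_sigmaCore H) heq))
    exact hr.2.1 (by rwa [Set.mem_singleton_iff.1 hs'] at h1)
  set A := A₀.map (MulAut.conj a).toMonoidHom
  have hA : Cfsg.IsElementaryAbelian r A := isElementaryAbelian_map (MulAut.conj a).toMonoidHom hA₀
  have hAc : Nat.card A = r ^ 2 := by rw [card_map_conj, hA₀c]
  have hEN := (F.tauTwoCompl H hH E hE r hr A haE hA hAc).1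
  have hEs : Group.IsSolvable E :=
    minSimple_solvable hG fun h => hH.1 (top_le_iff.1 (h ▸ hE.1))
  have hAQ : A ≤ centralizer (Q : Set G) := by
    intro x hx
    refine mem_centralizer_iff.2 fun y hy => ?_
    have hy' := le_commutator_complIn F hG hH hE (mem_inf.2 ⟨hQE hy, hQH hy⟩)
    have h1 := mem_of_pow_mem_of_ne hrq hQ hy (pow_mem_centralizer_of_mem_commutator_abelem_two r
      hEs (minSimple_odd_subgroup hG E) hA hAc hEN hy')
    exact (mem_centralizer_iff.1 h1 x hx).symm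
  have hAN : A ≤ normalizer (Q : Set G) := hAQ.trans (centralizer_le_normalizer _)
  by_cases hcyc : IsCyclic Q
  swap
  · exact noM A (hAN.trans (F.sigmaNoncyclic M hM q Q hq hQ hQM hcyc)) hA hAc
  obtain ⟨Y, hYQ, hY⟩ := exists_card_prime_le hQ hQ1
  have hNQY := normalizer_le_normalizer_of_isCyclic hcyc hYQ
  by_cases hNYM : normalizer (Y : Set G) ≤ M
  · exact noM A (hAN.trans (hNQY.trans hNYM)) hA hAc
  have hY1 : Y ≠ ⊥ := fun h => by
    rw [h, Subgroup.card_bot] at hY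
    exact (Fact.out : q.Prime).ne_one hY.symm
  have hYp : IsPGroup q Y := IsPGroup.of_card (n := 1) (by rw [hY, pow_one])
  obtain ⟨L, hL, hNL⟩ := minSimple_exists_coatom hG
    (minSimple_normalizer_ne_top hG hY1 (minSimple_ne_top_of_isPGroup hG hYp))
  have hLM : L ≠ M := fun h => hNYM (h ▸ hNL)
  have hAL : A ≤ L := hAN.trans (hNQY.trans hNL)
  have hAp : IsPGroup r A := isPGroup_of_isElementaryAbelian hA
  have hrL : r ∈ Cfsg.sigma L := by
    by_contra hrL
    obtain ⟨b, -, hb⟩ := cover_conj F hG hM hq hY (hYQ.trans hQM) hL hLM hNL hAL fun s hs hd => by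
      rw [hAc] at hd
      exact Or.inr (((Nat.prime_dvd_prime_iff_eq hs Fact.out).1
        (hs.dvd_of_dvd_pow hd)).symm ▸ hrL)
    exact noM _ (hb.trans inf_le_left) (isElementaryAbelian_map (MulAut.conj b).toMonoidHom hA)
      (by rw [card_map_conj, hAc])
  obtain ⟨hncL, ⟨-, hLeq, -⟩ | ⟨-, -, hinf, -, -⟩⟩ :=
    cover F hG hM hq hY (hYQ.trans hQM) hL hLM hNL
  · have hrb : r ∈ Cfsg.beta L := by
      by_contra hrb
      haveI := minSimple_coatom_solvable hG hL
      obtain ⟨b, -, hb⟩ := exists_conj_le_of_relIndex (L := M ⊓ L) (π := ({r} : Set ℕ))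
        inf_le_right hAL (isPiSubgroup_of_isPGroup hAp rfl) fun s hs hd hs' => by
        have h1 := isPiSubgroup_piCoreOf _ _ s hs
          (hd.trans (relIndex_dvd_card_of_eq_sup (le_normalizer_betaCore L) hLeq))
        exact hrb (by rwa [Set.mem_singleton_iff.1 hs'] at h1)
      exact noM _ (hb.trans inf_le_left) (isElementaryAbelian_map (MulAut.conj b).toMonoidHom hA)
        (by rw [card_map_conj, hAc])
    exact (F.bg10.rankTwo H hH r hr.2.1 hr.2.2.1 hr.2.2.2).1 hrb.2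
  · have hXp : IsPGroup r X := IsPGroup.of_card (n := 1) (by rw [hX, pow_one])
    have h1 : X ≤ ⊥ := hinf ▸ le_inf
      (pGroup_le_sigmaCore F.bg10 hL hrL (hXQ.trans (hNQY.trans hNL)) hXp) hXM
    rw [le_bot_iff.1 h1, Subgroup.card_bot] at hX
    exact (Fact.out : r.Prime).ne_one hX.symm

end CfsgLib.OddOrder.BG13
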